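import Mathlib.AlgebraicGeometry.Scheme
import Mathlib.Topology.Sheaves.SheafCondition.UniqueGluing

/-!
Pointwise criteria for basic opens, and division by two functions generating the unit ideal.
-/

set_option autoImplicit false

universe u

open CategoryTheory AlgebraicGeometry TopologicalSpace Opposite

namespace Groth.Misc13.SComplete

variable {Z : Scheme.{u}}

theorem mem_basicOpen_mul {a b : Γ(Z, ⊤)} {z : Z} :
    z ∈ Z.basicOpen (a * b) ↔ z ∈ Z.basicOpen a ∧ z ∈ Z.basicOpen b := by
  rw [Scheme.basicOpen_mul]; exact Iff.rfl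

/-- If a linear combination is invertible at a point, so is one of its terms. -/
theorem mem_basicOpen_comb {a b p q : Γ(Z, ⊤)} {z : Z} (h : z ∈ Z.basicOpen (p * a + q * b)) :
    z ∈ Z.basicOpen a ∨ z ∈ Z.basicOpen b := by
  rcases Z.basicOpen_add_le (p * a) (q * b) h with h' | h'
  · exact Or.inl (mem_basicOpen_mul.1 h').2
  · exact Or.inr (mem_basicOpen_mul.1 h').2

theorem mem_basicOpen_one (z : Z) : z ∈ Z.basicOpen (1 : Γ(Z, ⊤)) := by
  rw [Scheme.basicOpen_of_isUnit _ isUnit_one]; trivial

/-- If `a * g = b * f` and `f, g` cover, then a unique `c` has `c f = a` and `c g = b`. -/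
theorem existsUnique_div (f g a b : Γ(Z, ⊤)) (hcov : ∀ z : Z, z ∈ Z.basicOpen f ∨ z ∈ Z.basicOpen g)
    (hab : a * g = b * f) : ∃! c : Γ(Z, ⊤), c * f = a ∧ c * g = b := by
  let U : Bool → Z.Opens := fun i => Z.basicOpen (cond i f g)
  have hU : (⊤ : Z.Opens) ≤ iSup U := fun z _ => Opens.mem_iSup.2 ((hcov z).elim
    (fun h => ⟨true, h⟩) fun h => ⟨false, h⟩)
  let ρ : ∀ i, Γ(Z, ⊤) →+* Γ(Z, U i) := fun i => (Z.presheaf.map (homOfLE (le_top : U i ≤ ⊤)).op).hom
  have hu : ∀ i, IsUnit (ρ i (cond i f g)) := fun i => RingedSpace.isUnit_res_basicOpen Z.toRingedSpace _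
  let sec : ∀ i, Γ(Z, U i) := fun i => ρ i (cond i a b) * ↑(hu i).unit⁻¹
  have hsec : ∀ i, sec i * ρ i (cond i f g) = ρ i (cond i a b) := fun i => by
    simp only [sec, mul_assoc, IsUnit.val_inv_mul, mul_one]
  have hcompat : TopCat.Presheaf.IsCompatible Z.sheaf.1 U sec := by
    intro i j
    let ri : Γ(Z, U i) →+* Γ(Z, U i ⊓ U j) := (Z.presheaf.map (Opens.infLELeft (U i) (U j)).op).hom
    let rj : Γ(Z, U j) →+* Γ(Z, U i ⊓ U j) := (Z.presheaf.map (Opens.infLERight (U i) (U j)).op).hom
    show ri (sec i) = rj (sec j)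
    have e : ∀ x, rj (ρ j x) = ri (ρ i x) := fun x => by
      show (Z.presheaf.map _) (Z.presheaf.map _ x) = (Z.presheaf.map _) (Z.presheaf.map _ x)
      rw [← CommRingCat.comp_apply, ← CommRingCat.comp_apply, ← Functor.map_comp, ← Functor.map_comp]
      rfl
    have hi : IsUnit (ri (ρ i (cond i f g))) := (hu i).map ri
    have hj : IsUnit (ri (ρ i (cond j f g))) := e _ ▸ (hu j).map rj
    have hx : cond i a b * cond j f g = cond j a b * cond i f g := by
      cases i <;> cases j <;> first | rfl | exact hab | exact hab.symm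
    have h1 : ri (sec i) * ri (ρ i (cond i f g)) = ri (ρ i (cond i a b)) := by rw [← map_mul, hsec]
    have h2 : rj (sec j) * ri (ρ i (cond j f g)) = ri (ρ i (cond j a b)) := by
      rw [← e, ← e, ← map_mul, hsec]
    have h3 := congrArg (fun x => ri (ρ i x)) hx
    simp only [map_mul] at h3
    apply (hi.mul hj).mul_left_injective
    show ri (sec i) * _ = rj (sec j) * _
    linear_combination (ri (ρ i (cond j f g))) * h1 - (ri (ρ i (cond i f g))) * h2 + h3
  obtain ⟨(c : Γ(Z, ⊤)), hc, huniq⟩ := Z.sheaf.existsUnique_gluing' U ⊤ (fun i => homOfLE le_top) hU sec hcompat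
  have hres : ∀ (d : Γ(Z, ⊤)) (i : Bool), d * cond i f g = cond i a b → ρ i d = sec i := fun d i hd => by
    apply (hu i).mul_left_injective
    show ρ i d * _ = sec i * _
    rw [hsec, ← hd, map_mul]
  refine ⟨c, ⟨?_, ?_⟩, fun d hd => huniq d fun i => hres d i (by cases i; exacts [hd.2, hd.1])⟩
  all_goals
    refine Z.sheaf.eq_of_locally_eq' U ⊤ (fun i => homOfLE le_top) hU _ _ fun i => ?_
    show ρ i _ = ρ i _
    have hci : ρ i c = sec i := hc i
    refine (map_mul (ρ i) c _).trans ?_
    rw [hci]
  · rcases i with _ | _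
    · apply (hu false).mul_left_injective
      have := congrArg (ρ false) hab
      simp only [map_mul] at this
      show sec false * ρ false f * ρ false g = ρ false a * ρ false g
      have h := hsec false
      simp only [cond] at h
      rw [this, mul_right_comm, h]
    · exact hsec true
  · rcases i with _ | _
    · exact hsec false
    · apply (hu true).mul_left_injective
      have := congrArg (ρ true) hab
      simp only [map_mul] at this
      show sec true * ρ true g * ρ true f = ρ true b * ρ true f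
      have h := hsec true
      simp only [cond] at h
      rw [← this, mul_right_comm, h]

end Groth.Misc13.SComplete
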