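import Mathlib.RingTheory.Flat.Basic
import Mathlib.RingTheory.PowerSeries.Inverse
import Mathlib.RingTheory.DiscreteValuationRing.Basic
import Groth.Prelude.Def_ThetaS

/-!
`π ^ M` is not in `(s ^ (M + 1), t ^ (M + 1))` in `R[s, t]/(s t - π)`, also after a flat extension meeting the node.
-/

set_option autoImplicit false

universe u

open scoped TensorProduct

namespace Groth.Misc13.SComplete

open ThetaS

variable {R : Type u} [CommRing R] [IsDomain R] [IsDiscreteValuationRing R] {π : R}

/-- The weight-zero functional of `R[s, t]`, substituting `π` for `s t`. -/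
noncomputable def degZero (π : R) : MvPolynomial (Fin 2) R →ₗ[R] R :=
  (MvPolynomial.basisMonomials (Fin 2) R).constr R fun v => if v 0 = v 1 then π ^ v 0 else 0

theorem degZero_monomial (v : Fin 2 →₀ ℕ) (c : R) :
    degZero π (MvPolynomial.monomial v c) = if v 0 = v 1 then c * π ^ v 0 else 0 := by
  have h : MvPolynomial.monomial v c = c • MvPolynomial.basisMonomials (Fin 2) R v := by
    simp [MvPolynomial.coe_basisMonomials, MvPolynomial.smul_monomial]
  rw [h, map_smul, degZero, Module.Basis.constr_basis]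
  split <;> simp

theorem degZero_rel (p : MvPolynomial (Fin 2) R) :
    degZero π (p * (MvPolynomial.X 0 * MvPolynomial.X 1 - MvPolynomial.C π)) = 0 := by
  induction p using MvPolynomial.induction_on' with
  | add p q hp hq => rw [add_mul, map_add, hp, hq, add_zero]
  | monomial v c =>
    rw [mul_sub, map_sub, MvPolynomial.X, MvPolynomial.X, MvPolynomial.monomial_mul,
      MvPolynomial.monomial_mul, MvPolynomial.C_apply, MvPolynomial.monomial_mul,
      degZero_monomial, degZero_monomial]
    by_cases h : v 0 = v 1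
    · simp [h, pow_succ]
      ring
    · simp [h]

theorem degZero_X_pow (i : Fin 2) (N : ℕ) (p : MvPolynomial (Fin 2) R) :
    π ^ N ∣ degZero π (p * MvPolynomial.X i ^ N) := by
  induction p using MvPolynomial.induction_on' with
  | add p q hp hq => rw [add_mul, map_add]; exact dvd_add hp hq
  | monomial v c =>
    rw [MvPolynomial.X_pow_eq_monomial, MvPolynomial.monomial_mul, degZero_monomial]
    split
    · rename_i h
      refine Dvd.dvd.mul_left (pow_dvd_pow π ?_) _
      fin_cases i <;> simp at h ⊢ <;> omega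
    · exact dvd_zero _

/-- The ideal `(s ^ N, t ^ N)`. -/
noncomputable def powIdeal (π : R) (N : ℕ) : Ideal (STRing R π) := Ideal.span {sFn R π ^ N, tFn R π ^ N}

theorem not_mem_powIdeal (hπ : Irreducible π) (M : ℕ) :
    algebraMap R (STRing R π) π ^ M ∉ powIdeal π (M + 1) := by
  intro h
  rw [powIdeal, Ideal.mem_span_pair] at h
  obtain ⟨a, b, hab⟩ := h
  obtain ⟨a, rfl⟩ := Ideal.Quotient.mk_surjective a
  obtain ⟨b, rfl⟩ := Ideal.Quotient.mk_surjective b
  rw [← map_pow, ← map_mul, ← map_pow, ← map_mul, ← map_add, ← map_pow,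
    IsScalarTower.algebraMap_apply R (MvPolynomial (Fin 2) R) (STRing R π), Ideal.Quotient.algebraMap_eq,
    MvPolynomial.algebraMap_eq, Ideal.Quotient.mk_eq_mk_iff_sub_mem, Ideal.mem_span_singleton'] at hab
  obtain ⟨p, hp⟩ := hab
  have h0 : degZero π (MvPolynomial.C (π ^ M)) = π ^ M := by
    rw [MvPolynomial.C_apply, degZero_monomial]
    simp
  have h1 := congrArg (degZero π) hp
  rw [degZero_rel, map_sub, map_add, h0, eq_comm, sub_eq_zero] at h1
  have h2 : π ^ (M + 1) ∣ π ^ M := h1 ▸ dvd_add (degZero_X_pow 0 _ a) (degZero_X_pow 1 _ b)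
  have := (pow_dvd_pow_iff hπ.ne_zero hπ.not_isUnit).1 h2
  omega

theorem le_colon_node (hπ : Irreducible π) (M : ℕ) (x : STRing R π)
    (hx : x * algebraMap R (STRing R π) π ^ M ∈ powIdeal π (M + 1)) :
    x ∈ Ideal.span {sFn R π, tFn R π} := by
  obtain ⟨p, rfl⟩ := Ideal.Quotient.mk_surjective x
  set m := Ideal.span {sFn R π, tFn R π} with hm
  have key : Ideal.Quotient.mk _ p - algebraMap R (STRing R π) (MvPolynomial.constantCoeff p) ∈ m := by
    clear hx
    induction p using MvPolynomial.induction_on with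
    | C a =>
      rw [MvPolynomial.constantCoeff_C, IsScalarTower.algebraMap_apply R (MvPolynomial (Fin 2) R) (STRing R π)]
      simp
    | add p q hp hq =>
      rw [map_add, map_add, map_add, add_sub_add_comm]
      exact m.add_mem hp hq
    | mul_X p i _ =>
      rw [map_mul MvPolynomial.constantCoeff, MvPolynomial.constantCoeff_X, mul_zero, map_zero, sub_zero,
        map_mul]
      refine m.mul_mem_left _ (Ideal.subset_span ?_)
      fin_cases i <;> simp
  have hπm : algebraMap R (STRing R π) π ∈ m := by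
    rw [← sFn_mul_tFn]
    exact m.mul_mem_right _ (Ideal.subset_span (by simp))
  have hmI : m * Ideal.span {algebraMap R (STRing R π) π ^ M} ≤ powIdeal π (M + 1) := by
    rw [hm, Ideal.span_mul_span']
    refine Ideal.span_le.2 ?_
    rintro _ ⟨a, ha, b, rfl, rfl⟩
    rcases ha with rfl | rfl
    · exact Ideal.mem_span_pair.2 ⟨tFn R π ^ M, 0, by rw [← sFn_mul_tFn, mul_pow]; ring⟩
    · exact Ideal.mem_span_pair.2 ⟨0, sFn R π ^ M, by rw [← sFn_mul_tFn, mul_pow]; ring⟩
  by_cases hu : IsUnit (MvPolynomial.constantCoeff p)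
  · exfalso
    have h := hmI (Ideal.mul_mem_mul key (Ideal.mem_span_singleton_self _))
    rw [sub_mul, Submodule.sub_mem_iff_right _ hx] at h
    exact not_mem_powIdeal hπ M ((Ideal.unit_mul_mem_iff_mem _ (hu.map _)).1 h)
  · obtain ⟨c, hc⟩ : π ∣ MvPolynomial.constantCoeff p := by
      rw [← Ideal.mem_span_singleton, ← hπ.maximalIdeal_eq]
      exact hu
    rw [← sub_add_cancel (Ideal.Quotient.mk _ p) (algebraMap R _ (MvPolynomial.constantCoeff p))]
    refine m.add_mem key ?_
    rw [hc, map_mul]
    exact m.mul_mem_right _ hπm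

/-- Colon ideals commute with flat extensions: if `c ∈ J B` then `(J : c) B = B`. -/
theorem colon_map_eq_top {A B : Type u} [CommRing A] [CommRing B] [Algebra A B] [Module.Flat A B]
    (J I : Ideal A) (c : A) (hI : ∀ x, x * c ∈ J → x ∈ I) (hmem : algebraMap A B c ∈ J.map (algebraMap A B)) :
    I.map (algebraMap A B) = ⊤ := by
  let φ : A →ₗ[A] A ⧸ J := LinearMap.toSpanSingleton A _ (Ideal.Quotient.mk J c)
  let I' : Ideal A := LinearMap.ker φ
  have hI' : I' ≤ I := fun x hx => hI x (by
    have h : x • Ideal.Quotient.mk J c = 0 := hx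
    rw [← Ideal.Quotient.eq_zero_iff_mem, map_mul]
    exact h)
  let ψ : A ⧸ I' →ₗ[A] A ⧸ J := Submodule.liftQ I' φ le_rfl
  have hψ : Function.Injective ψ := LinearMap.ker_eq_bot.1 (Submodule.ker_liftQ_eq_bot _ _ _ le_rfl)
  have hinj := Module.Flat.rTensor_preserves_injective_linearMap (M := B) ψ hψ
  have h1 : ψ.rTensor B ((Ideal.Quotient.mk I' 1) ⊗ₜ[A] (1 : B)) = 0 := by
    rw [LinearMap.rTensor_tmul]
    have h2 : ψ (Ideal.Quotient.mk I' 1) = Ideal.Quotient.mk J c := one_smul A (Ideal.Quotient.mk J c)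
    rw [h2]
    apply (TensorProduct.quotTensorEquivQuotSMul B J).injective
    rw [map_zero, TensorProduct.quotTensorEquivQuotSMul_mk_tmul, Submodule.Quotient.mk_eq_zero,
      Ideal.smul_top_eq_map, Submodule.restrictScalars_mem, Algebra.smul_def, mul_one]
    exact hmem
  rw [← map_zero (ψ.rTensor B)] at h1
  have h3 := congrArg (TensorProduct.quotTensorEquivQuotSMul B I') (hinj h1)
  rw [map_zero, TensorProduct.quotTensorEquivQuotSMul_mk_tmul, Submodule.Quotient.mk_eq_zero,
    Ideal.smul_top_eq_map, Submodule.restrictScalars_mem, one_smul] at h3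
  exact (Ideal.eq_top_iff_one _).2 (Ideal.map_mono hI' h3)

/-- In a flat algebra over `R[s, t]/(s t - π)` with a point over the node, `π ^ M` is not in
`(s ^ (M + 1), t ^ (M + 1))`. -/
theorem not_mem_powIdeal_map (hπ : Irreducible π) {B : Type u} [CommRing B] [Algebra (STRing R π) B]
    [Module.Flat (STRing R π) B] (q : Ideal B) (hq : q ≠ ⊤)
    (hs : algebraMap _ B (sFn R π) ∈ q) (ht : algebraMap _ B (tFn R π) ∈ q) (M : ℕ) :
    algebraMap _ B (algebraMap R (STRing R π) π ^ M) ∉ (powIdeal π (M + 1)).map (algebraMap _ B) := by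
  intro hmem
  have h := colon_map_eq_top _ (Ideal.span {sFn R π, tFn R π}) _ (le_colon_node hπ M) hmem
  refine hq (top_le_iff.1 (h ▸ ?_))
  rw [Ideal.map_span, Ideal.span_le, Set.image_pair]
  rintro x (rfl | rfl)
  exacts [hs, ht]

/-- If `x = 1 + a π` on `D(s)` and `x = b π` on `D(t)` then the node is not in the image: the key contradiction. -/
theorem false_of_sections (hπ : Irreducible π) {B : Type u} [CommRing B] [Algebra (STRing R π) B]
    [Module.Flat (STRing R π) B] (q : Ideal B) (hq : q ≠ ⊤)
    (hs : algebraMap _ B (sFn R π) ∈ q) (ht : algebraMap _ B (tFn R π) ∈ q)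
    (a b : B) (n N : ℕ)
    (h : algebraMap _ B (algebraMap R (STRing R π) π) ^ N *
      (algebraMap _ B (algebraMap R (STRing R π) π) *
        (b * algebraMap _ B (sFn R π) ^ n - a * algebraMap _ B (tFn R π) ^ n) -
        algebraMap _ B (algebraMap R (STRing R π) π) ^ n) = 0) : False := by
  set σ := algebraMap _ B (sFn R π) with hσ
  set τ := algebraMap _ B (tFn R π) with hτ
  have e : algebraMap _ B (algebraMap R (STRing R π) π) = σ * τ := by rw [← sFn_mul_tFn, map_mul]
  refine not_mem_powIdeal_map hπ q hq hs ht (N + n) ?_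
  rw [map_pow, powIdeal, Ideal.map_span, Set.image_pair, map_pow, map_pow, Ideal.mem_span_pair, e]
  rw [e] at h
  exact ⟨b * τ ^ (N + 1), -(a * σ ^ (N + 1)), by rw [← hσ, ← hτ]; linear_combination h⟩

end Groth.Misc13.SComplete
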