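import Groth.Agent.Misc13.SComplete.Twist

/-!
An object of `ST_R` missing the node covers its base by the images of the loci where `s`, resp. `t`, is invertible.
-/

set_option autoImplicit false

universe u

open CategoryTheory CategoryTheory.Limits MonoidalCategory CartesianMonoidalCategory MonObj GrpObj
  AlgebraicGeometry TopologicalSpace

noncomputable section

namespace Groth.Misc13.SComplete

open ThetaS

variable {R : Type u} [CommRing R] {π : R}

/-- A morphism between affine schemes over `R` is `Spec` of an algebra map. -/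
theorem exists_pt {B K : Type u} [CommRing B] [CommRing K] [Algebra R B] [Algebra R K]
    (p : CoactBr.sp R K ⟶ CoactBr.sp R B) : ∃ φ : B →ₐ[R] K, CoactBr.pt φ = p := by
  let q : Spec (CommRingCat.of K) ⟶ Spec (CommRingCat.of B) := p.left
  have hw : Spec.map (CommRingCat.ofHom (algebraMap R B) ≫ Spec.preimage q) =
      Spec.map (CommRingCat.ofHom (algebraMap R K)) := by
    rw [Spec.map_comp, Spec.map_preimage]
    exact Over.w p
  refine ⟨⟨(Spec.preimage q).hom, fun r => ?_⟩, Over.OverMorphism.ext ?_⟩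
  · exact RingHom.congr_fun (congrArg CommRingCat.Hom.hom (Spec.map_injective hw)) r
  · rw [CoactBr.pt_left]
    exact Spec.map_preimage _

variable {A : CommRingCat.{u}}

theorem mem_stFn_iff {K : Type u} [Field K] [Algebra R K] (φ : STRing R π →ₐ[R] K) (q : STRing R π)
    (x : (CoactBr.sp R K).left) :
    (CoactBr.pt φ).left x ∈ (STSch R π).left.basicOpen (stFn q) ↔ φ q ≠ 0 := by
  have e : (STSch R π).left.basicOpen (stFn q) = PrimeSpectrum.basicOpen q :=
    basicOpen_eq_of_affine (R := CommRingCat.of (STRing R π)) q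
  rw [e]
  show φ q ∉ x.asIdeal ↔ _
  rw [(Ideal.eq_bot_or_top x.asIdeal).resolve_right x.isPrime.ne_top, Ideal.mem_bot]

/-- The action of `G_m` preserves the loci where `s`, resp. `t`, is invertible. -/
theorem stAction_mem_iff (w : (Gm R ⊗ STSch R π : Over _).left) :
    ((stAction R π).act.left w ∈ (STSch R π).left.basicOpen (stFn (sFn R π)) ↔
        (snd (Gm R) (STSch R π)).left w ∈ (STSch R π).left.basicOpen (stFn (sFn R π))) ∧
      ((stAction R π).act.left w ∈ (STSch R π).left.basicOpen (stFn (tFn R π)) ↔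
        (snd (Gm R) (STSch R π)).left w ∈ (STSch R π).left.basicOpen (stFn (tFn R π))) := by
  let Y := (Gm R ⊗ STSch R π : Over (Spec (CommRingCat.of R)))
  let K : Type u := Y.left.residueField w
  let g := Y.left.fromSpecResidueField w
  letI : Algebra R K := (Spec.preimage (g ≫ Y.hom)).hom.toAlgebra
  let gO : CoactBr.sp R K ⟶ Y := Over.homMk g (by
    show g ≫ Y.hom = Spec.map (CommRingCat.ofHom (algebraMap R K))
    exact (Spec.map_preimage _).symm)
  obtain ⟨lam, hlam⟩ := exists_pt (B := Lau R) (gO ≫ fst _ _)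
  obtain ⟨φ, hφ⟩ := exists_pt (B := STRing R π) (gO ≫ snd _ _)
  have hab : φ (sFn R π) * φ (tFn R π) = algebraMap R K π := by rw [← map_mul, sFn_mul_tFn, AlgHom.commutes]
  have hφ' : φ = stPt (φ (sFn R π)) (φ (tFn R π)) hab :=
    stRing_algHom_ext (stPt_sFn _ _ _).symm (stPt_tFn _ _ _).symm
  have hgO : gO = lift (CoactBr.pt lam) (CoactBr.pt φ) := by
    rw [hlam, hφ, ← comp_lift, lift_fst_snd, Category.comp_id]
  let x : (CoactBr.sp R K).left := IsLocalRing.closedPoint K
  have hx : gO.left x = w := Scheme.fromSpecResidueField_apply w x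
  have hsnd : (snd (Gm R) (STSch R π)).left w = (CoactBr.pt φ).left x := by
    rw [hφ]
    exact ((Scheme.Hom.comp_apply gO.left _ x).trans (congrArg _ hx)).symm
  have hact := stAction_pt lam _ _ hab
  rw [← hφ', ← hgO] at hact
  have hw : (stAction R π).act.left w = (gO ≫ (stAction R π).act).left x :=
    ((Scheme.Hom.comp_apply gO.left _ x).trans (congrArg _ hx)).symm
  have hu : ∀ n : ℤ, lam (zPow R n) ≠ 0 := fun n h0 => by
    have h := congrArg lam (zPow_mul R n (-n))
    rw [map_mul, h0, zero_mul, add_neg_cancel, zPow_zero, map_one] at h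
    exact zero_ne_one h
  rw [hsnd, hw, hact, mem_stFn_iff, mem_stFn_iff, mem_stFn_iff, mem_stFn_iff, stPt_sFn, stPt_tFn]
  exact ⟨by simp [hu 1], by simp [hu (-1)]⟩

variable (A₀ : AlgSt.QuotObj Scheme.fppfPrecoverage (Gm R) (stAction R π))

/-- `φ^* q` on the torsor. -/
abbrev fnP (q : STRing R π) : Γ(A₀.P.left, ⊤) := A₀.φ.left.appTop (stFn q)

theorem mem_fnP_iff (q : STRing R π) (p : A₀.P.left) :
    p ∈ A₀.P.left.basicOpen (fnP A₀ q) ↔ A₀.φ.left p ∈ (STSch R π).left.basicOpen (stFn q) := by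
  rw [fnP, ← Scheme.preimage_basicOpen_top]
  exact Iff.rfl

theorem exists_section (x : A₀.base.left) :
    ∃ (S' : Scheme.{u}) (f : S' ⟶ A₀.base.left) (σ : S' ⟶ A₀.P.left),
      Flat f ∧ LocallyOfFinitePresentation f ∧ σ ≫ A₀.π.left = f ∧ x ∈ Set.range f := by
  obtain ⟨Rc, hRc, hsec⟩ := A₀.loc
  obtain ⟨S', f, hf, hx⟩ := Scheme.JointlySurjective.exists_eq
    (K := Scheme.precoverage (@Flat ⊓ @LocallyOfFinitePresentation)) Rc hRc x
  obtain ⟨hflat, hlfp⟩ := hRc.2 hf
  obtain ⟨σ, hσ⟩ := hsec f hf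
  exact ⟨S', f, σ, hflat, hlfp, hσ, hx⟩

theorem surjective_pi (x : A₀.base.left) : ∃ p, A₀.π.left p = x := by
  obtain ⟨S', f, σ, -, -, hσ, z, rfl⟩ := exists_section A₀ x
  exact ⟨σ z, by rw [← Scheme.Hom.comp_apply, hσ]⟩

theorem saturated {p p' : A₀.P.left} (h : A₀.π.left p = A₀.π.left p') :
    (p ∈ A₀.P.left.basicOpen (fnP A₀ (sFn R π)) ↔ p' ∈ A₀.P.left.basicOpen (fnP A₀ (sFn R π))) ∧
      (p ∈ A₀.P.left.basicOpen (fnP A₀ (tFn R π)) ↔ p' ∈ A₀.P.left.basicOpen (fnP A₀ (tFn R π))) := by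
  obtain ⟨v, hv1, hv2⟩ := Scheme.Pullback.exists_preimage_pullback (f := A₀.π.left) (g := A₀.π.left) p p' h
  obtain ⟨w, hw1, hw2⟩ : ∃ w : (Gm R ⊗ A₀.P : Over (Spec (CommRingCat.of R))).left,
      A₀.act.act.left w = p ∧ (snd (Gm R) A₀.P).left w = p' :=
    ⟨(A₀.cart.map (Over.forget _)).isoPullback.inv v,
      (congrArg (fun m => m v) (IsPullback.isoPullback_inv_fst (A₀.cart.map (Over.forget _)))).trans hv1,
      (congrArg (fun m => m v) (IsPullback.isoPullback_inv_snd (A₀.cart.map (Over.forget _)))).trans hv2⟩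
  have e1 : A₀.φ.left p = (stAction R π).act.left ((Gm R ◁ A₀.φ).left w) := by
    have := congrArg (fun m => m.left w) A₀.eqv
    simp only [Over.comp_left, Scheme.Hom.comp_apply] at this
    rw [← this]
    exact congrArg A₀.φ.left hw1.symm
  have e2 : A₀.φ.left p' = (snd (Gm R) (STSch R π)).left ((Gm R ◁ A₀.φ).left w) := by
    have := congrArg (fun m => m.left w) (whiskerLeft_snd (Gm R) A₀.φ)
    simp only [Over.comp_left, Scheme.Hom.comp_apply] at this
    rw [this]
    exact congrArg A₀.φ.left hw2.symm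
  simp only [mem_fnP_iff, e1, e2]
  exact stAction_mem_iff _

/-- The image of a saturated open of the torsor is open. -/
def imageOpen (U : A₀.P.left.Opens)
    (hU : ∀ p p', A₀.π.left p = A₀.π.left p' → (p ∈ U ↔ p' ∈ U)) : A₀.base.left.Opens :=
  ⟨A₀.π.left '' (U : Set A₀.P.left), isOpen_iff_forall_mem_open.2 fun x hx => by
    obtain ⟨S', f, σ, hflat, hlfp, hσ, z, rfl⟩ := exists_section A₀ x
    refine ⟨f '' (σ ⁻¹' (U : Set A₀.P.left)), ?_, ?_, ?_⟩
    · rintro _ ⟨z', hz', rfl⟩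
      exact ⟨σ z', hz', by rw [← Scheme.Hom.comp_apply, hσ]⟩
    · exact f.isOpenMap _ (U.isOpen.preimage σ.continuous)
    · obtain ⟨p, hp, hpz⟩ := hx
      refine ⟨z, (hU _ _ ?_).1 hp, rfl⟩
      rw [hpz, ← Scheme.Hom.comp_apply, hσ]⟩

theorem mem_imageOpen {U : A₀.P.left.Opens} {hU : ∀ p p', A₀.π.left p = A₀.π.left p' → (p ∈ U ↔ p' ∈ U)}
    (p : A₀.P.left) : A₀.π.left p ∈ imageOpen A₀ U hU ↔ p ∈ U :=
  ⟨fun ⟨_, hp', e⟩ => (hU _ _ e).1 hp', fun h => ⟨p, h, rfl⟩⟩

theorem fnP_mul : fnP A₀ (sFn R π) * fnP A₀ (tFn R π) = A₀.π.left.appTop (piFn π A₀.base.hom) := by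
  have e : stFn (algebraMap R (STRing R π) π) = piFn π (STSch R π).hom := by
    show _ = (Spec.map (CommRingCat.ofHom (algebraMap R (STRing R π)))).appTop _
    rw [← CommRingCat.comp_apply, ← Scheme.ΓSpecIso_inv_naturality]
    rfl
  have e' : stFn (sFn R π) * stFn (tFn R π) = stFn (algebraMap R (STRing R π) π) :=
    (map_mul (Scheme.ΓSpecIso (CommRingCat.of (STRing R π))).inv.hom _ _).symm.trans
      (congrArg (fun q : STRing R π => stFn q) (sFn_mul_tFn R π))
  rw [fnP, fnP, ← map_mul, e', e]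
  rw [← piFn_comp, ← piFn_comp, Over.w A₀.φ, Over.w A₀.π]

/-- The covered base of an object missing the node. -/
def covOf (hA : MissesNode A₀) : Cov π where
  T := A₀.base
  Us := imageOpen A₀ (A₀.P.left.basicOpen (fnP A₀ (sFn R π))) fun _ _ h => (saturated A₀ h).1
  Ut := imageOpen A₀ (A₀.P.left.basicOpen (fnP A₀ (tFn R π))) fun _ _ h => (saturated A₀ h).2
  cover x := by
    obtain ⟨p, rfl⟩ := surjective_pi A₀ x
    rw [mem_imageOpen, mem_imageOpen]
    have hp : p ∈ (⊤ : A₀.P.left.Opens) := trivial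
    rwa [← hA] at hp
  inter x := by
    obtain ⟨p, rfl⟩ := surjective_pi A₀ x
    rw [mem_imageOpen, mem_imageOpen, ← mem_basicOpen_mul, fnP_mul,
      ← Scheme.preimage_basicOpen_top (f := A₀.π.left)]
    exact Iff.rfl

variable {A₀} {A₁ : AlgSt.QuotObj Scheme.fppfPrecoverage (Gm R) (stAction R π)}

theorem covOf_mem_iff (hA : MissesNode A₀) (hA₁ : MissesNode A₁) (f : A₁ ⟶ A₀) (x : A₁.base.left) :
    (f.base.left x ∈ (covOf A₀ hA).Us ↔ x ∈ (covOf A₁ hA₁).Us) ∧
      (f.base.left x ∈ (covOf A₀ hA).Ut ↔ x ∈ (covOf A₁ hA₁).Ut) := by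
  obtain ⟨p, rfl⟩ := surjective_pi A₁ x
  have e : f.base.left (A₁.π.left p) = A₀.π.left (f.top.left p) :=
    (congrArg (fun m => m.left p) f.cart.w).symm
  have e' : A₁.φ.left p = A₀.φ.left (f.top.left p) := (congrArg (fun m => m.left p) f.wφ).symm
  rw [e]
  constructor
  · refine (mem_imageOpen A₀ (hU := fun _ _ h => (saturated A₀ h).1) _).trans
      (Iff.trans ?_ (mem_imageOpen A₁ (hU := fun _ _ h => (saturated A₁ h).1) p).symm)
    rw [mem_fnP_iff, mem_fnP_iff, e']
  · refine (mem_imageOpen A₀ (hU := fun _ _ h => (saturated A₀ h).2) _).trans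
      (Iff.trans ?_ (mem_imageOpen A₁ (hU := fun _ _ h => (saturated A₁ h).2) p).symm)
    rw [mem_fnP_iff, mem_fnP_iff, e']

end Groth.Misc13.SComplete
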