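import Groth.Agent.Misc13.SComplete.Twist

/-!
The twisted torsor as an object of `B G_a`, functorially in the covered base.
-/

set_option autoImplicit false

universe u

open CategoryTheory CategoryTheory.Limits MonoidalCategory CartesianMonoidalCategory MonObj GrpObj
  AlgebraicGeometry TopologicalSpace

noncomputable section

namespace Groth.Misc13.SComplete.Cov

variable {R : Type u} [CommRing R] {π : R} {S : Scheme.{u}} (h : Spec (CommRingCat.of R) ⟶ S)

/-- Two points over the same base point differ by a unique translation. -/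
theorem existsUnique_translate {c : Cov π} {Y : Over S} (p q : Y ⟶ c.QS h)
    (hpq : p ≫ c.projS h = q ≫ c.projS h) : ∃! γ : Y ⟶ Red.Ga S, lift γ q ≫ c.actHom h = p := by
  have hv : p.left ≫ c.proj = q.left ≫ c.proj := congrArg CommaMorphism.left hpq
  have hp := isPt_comp p.left
  have hq := isPt_comp q.left
  rw [hv] at hp
  set v := q.left ≫ c.proj with hvdef
  set a1 := p.left.appTop c.X
  set b1 := p.left.appTop c.Z
  set a2 := q.left.appTop c.X
  set b2 := q.left.appTop c.Z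
  set P := piFn π (v ≫ c.T.hom) with hP
  have hcov : ∀ y : Y.left, y ∈ Y.left.basicOpen P ∨ y ∈ Y.left.basicOpen (1 - a1 - a2) := by
    intro y
    rcases hp.cov y with h1 | ⟨h1, h1'⟩ | ⟨h1, h1'⟩
    · exact Or.inl ((c.piFn_mem v y).2 h1)
    · rcases hq.cov y with h2 | ⟨h2, _⟩ | ⟨_, h2'⟩
      · exact Or.inl ((c.piFn_mem v y).2 h2)
      · have h12 := mem_basicOpen_mul.2 ⟨mem_basicOpen_mul.2 ⟨h1, h2⟩, h2⟩
        have e : a1 * a2 * a2 = (a2 * b1) * P + (-(a1 * a2)) * (1 - a1 - a2) + (0 : Γ(Y.left, ⊤)) := by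
          linear_combination a2 * hp.eq
        rw [e, add_zero] at h12
        exact mem_basicOpen_comb h12
      · exact Or.inl ((c.piFn_mem v y).2 ((c.inter _).2 ⟨h1', h2'⟩))
    · rcases hq.cov y with h2 | ⟨_, h2'⟩ | ⟨h2, _⟩
      · exact Or.inl ((c.piFn_mem v y).2 h2)
      · exact Or.inl ((c.piFn_mem v y).2 ((c.inter _).2 ⟨h2', h1'⟩))
      · have h12 := mem_basicOpen_mul.2 ⟨mem_basicOpen_mul.2 ⟨h1, h2⟩, h2⟩
        have e : (1 - a1) * (1 - a2) * (1 - a2) =
            ((1 - a2) * b1) * P + ((1 - a1) * (1 - a2)) * (1 - a1 - a2) + (0 : Γ(Y.left, ⊤)) := by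
          linear_combination (1 - a2) * hp.eq
        rw [e, add_zero] at h12
        exact mem_basicOpen_comb h12
  obtain ⟨γ, ⟨h1, h2⟩, huniq⟩ := existsUnique_div P (1 - a1 - a2) (a1 - a2) (b1 - b2) hcov
    (by linear_combination hp.eq - hq.eq)
  have hassoc : q.left ≫ c.proj ≫ c.T.hom = v ≫ c.T.hom := (Category.assoc _ _ _).symm
  refine ⟨Groth.Reductive.gaMk Y γ, act_ext ?_ ?_ ?_, fun δ hδ => ?_⟩
  · rw [lift_act_proj, hv]
  · rw [lift_act_X, Groth.Reductive.gaFn_gaMk, hassoc]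
    show a2 + γ * P = a1
    rw [h1]; ring
  · rw [lift_act_Z, Groth.Reductive.gaFn_gaMk, hassoc]
    show b2 + γ * (1 - 2 * a2) - γ ^ 2 * P = b1
    linear_combination h2 - γ * h1
  · apply Groth.Reductive.gaFn_injective
    rw [Groth.Reductive.gaFn_gaMk]
    have ha : a2 + Red.gaFn δ * P = a1 := by
      rw [hP, ← hassoc, ← lift_act_X δ q, hδ]
    have hb : b2 + Red.gaFn δ * (1 - 2 * a2) - Red.gaFn δ ^ 2 * P = b1 := by
      rw [hP, ← hassoc, ← lift_act_Z δ q, hδ]
    exact huniq _ ⟨by linear_combination ha, by linear_combination hb + Red.gaFn δ * ha⟩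

variable (c : Cov π)

/-- `G_a × Q ≅ Q ×_T Q`. -/
theorem isPullback_act :
    IsPullback (c.action h).act (snd (Red.Ga S) (c.QS h)) (c.projS h) (c.projS h) := by
  have hw : c.actHom h ≫ c.projS h = snd _ _ ≫ c.projS h := by
    refine Over.OverMorphism.ext ?_
    show c.actLeft h ≫ c.proj = _ ≫ c.proj
    rw [actLeft, ptMor_proj]
  refine ⟨⟨hw⟩, ⟨PullbackCone.IsLimit.mk _
    (fun s => lift (existsUnique_translate h s.fst s.snd s.condition).choose s.snd)
    (fun s => (existsUnique_translate h s.fst s.snd s.condition).choose_spec.1)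
    (fun s => lift_snd _ _) fun s m h1 h2 => ?_⟩⟩
  have hm : m = lift (m ≫ fst _ _) (m ≫ snd _ _) := by rw [← comp_lift, lift_fst_snd, Category.comp_id]
  have h1' : lift (m ≫ fst _ _) s.snd ≫ c.actHom h = s.fst := by rw [← h2, ← hm]; exact h1
  rw [hm, h2]
  congr 1
  exact (existsUnique_translate h s.fst s.snd s.condition).choose_spec.2 _ h1'

theorem isLocallyTrivial :
    NonAbH1.IsLocallyTrivialFor Scheme.fppfPrecoverage (Over.mk (c.projS h).left : Over (c.TS h).left) := by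
  let U : Bool → c.T.left.Opens := fun i => cond i c.Us c.Ut
  have hU : IsOpenCover U := by
    rw [IsOpenCover, eq_top_iff]
    exact fun x _ => Opens.mem_iSup.2 ((c.cover x).elim (fun hx => ⟨true, hx⟩) fun hx => ⟨false, hx⟩)
  let 𝒰 := c.T.left.openCoverOfIsOpenCover U hU
  refine ⟨𝒰.presieve₀, Scheme.zariskiPrecoverage_le_fppfPrecoverage _ 𝒰.mem₀, ?_⟩
  rintro Y f ⟨i⟩
  have hi : ∀ y : (U i).toScheme, (U i).ι y ∈ U i := fun y => by
    rw [← SetLike.mem_coe, ← Scheme.Opens.range_ι]; exact Set.mem_range_self y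
  cases i
  · have hp : c.IsPt (U false).ι 0 0 := ⟨by ring, fun y => Or.inr (Or.inr ⟨by
      rw [sub_zero]; exact mem_basicOpen_one y, hi y⟩)⟩
    exact ⟨ptMor hp, ptMor_proj hp⟩
  · have hp : c.IsPt (U true).ι 1 0 := ⟨by ring, fun y => Or.inr (Or.inl ⟨mem_basicOpen_one y, hi y⟩)⟩
    exact ⟨ptMor hp, ptMor_proj hp⟩

/-- The twisted torsor as an object of `B G_a`. -/
def obj : AlgSt.QuotObj Scheme.fppfPrecoverage (Red.Ga S) (AlgSt.trivAction (Red.Ga S)) where
  base := c.TS h
  P := c.QS h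
  act := c.action h
  π := c.projS h
  cart := c.isPullback_act h
  loc := c.isLocallyTrivial h
  φ := toUnit _
  eqv := toUnit_unique _ _

variable {c}
variable {c' : Cov π} (f : c'.T ⟶ c.T) (hs : ∀ x, f.left x ∈ c.Us ↔ x ∈ c'.Us)
  (ht : ∀ x, f.left x ∈ c.Ut ↔ x ∈ c'.Ut)

theorem mem_piFn_iff (x : c'.T.left) :
    f.left x ∈ c.T.left.basicOpen (piFn π c.T.hom) ↔ x ∈ c'.T.left.basicOpen (piFn π c'.T.hom) := by
  rw [show piFn π c'.T.hom = f.left.appTop (piFn π c.T.hom) by rw [← piFn_comp, Over.w f],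
    ← Scheme.preimage_basicOpen_top (f := f.left)]
  exact Iff.rfl

include hs ht in
theorem IsPt.push {Y : Scheme.{u}} {v : Y ⟶ c'.T.left} {a b : Γ(Y, ⊤)} (hp : c'.IsPt v a b) :
    c.IsPt (v ≫ f.left) a b := by
  constructor
  · rw [Category.assoc, Over.w f]; exact hp.eq
  · intro y
    rw [Scheme.Hom.comp_apply, mem_piFn_iff, hs, ht]
    exact hp.cov y

include hs ht in
theorem IsPt.pull {Y : Scheme.{u}} {v : Y ⟶ c'.T.left} {a b : Γ(Y, ⊤)} (hp : c.IsPt (v ≫ f.left) a b) :
    c'.IsPt v a b := by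
  constructor
  · rw [← Over.w f, ← Category.assoc]; exact hp.eq
  · intro y
    have := hp.cov y
    rwa [Scheme.Hom.comp_apply, mem_piFn_iff, hs, ht] at this

/-- The map of total spaces. -/
def mapLeft : c'.Q ⟶ c.Q := ptMor (IsPt.push f hs ht c'.isPt_self)

/-- The map of total spaces over `S`. -/
def mapTop : c'.QS h ⟶ c.QS h :=
  Over.homMk (mapLeft f hs ht) (by
    show mapLeft f hs ht ≫ c.proj ≫ c.T.hom ≫ h = c'.proj ≫ c'.T.hom ≫ h
    rw [mapLeft, reassoc_of% ptMor_proj, Category.assoc, Over.w_assoc f])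

theorem mapTop_proj : mapTop h f hs ht ≫ c.projS h = c'.projS h ≫ (Over.map h).map f :=
  Over.OverMorphism.ext (ptMor_proj _)

theorem comp_mapTop_X {Y : Over S} (p : Y ⟶ c'.QS h) :
    (p ≫ mapTop h f hs ht).left.appTop c.X = p.left.appTop c'.X := by
  show p.left.appTop ((mapLeft f hs ht).appTop c.X) = _
  rw [mapLeft, ptMor_X]

theorem comp_mapTop_Z {Y : Over S} (p : Y ⟶ c'.QS h) :
    (p ≫ mapTop h f hs ht).left.appTop c.Z = p.left.appTop c'.Z := by
  show p.left.appTop ((mapLeft f hs ht).appTop c.Z) = _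
  rw [mapLeft, ptMor_Z]

theorem comp_mapTop_proj {Y : Over S} (p : Y ⟶ c'.QS h) :
    (p ≫ mapTop h f hs ht).left ≫ c.proj = (p.left ≫ c'.proj) ≫ f.left := by
  show (p.left ≫ mapLeft f hs ht) ≫ c.proj = _
  rw [Category.assoc, mapLeft, ptMor_proj, Category.assoc]

theorem mapTop_eqv :
    (c'.action h).act ≫ mapTop h f hs ht = (Red.Ga S ◁ mapTop h f hs ht) ≫ (c.action h).act := by
  show c'.actHom h ≫ _ = _ ≫ c.actHom h
  have e : Red.Ga S ◁ mapTop h f hs ht =
      lift (fst _ _) (snd (Red.Ga S) (c'.QS h) ≫ mapTop h f hs ht) := by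
    ext1 <;> simp
  have e' : c'.actHom h = lift (fst _ _) (snd (Red.Ga S) (c'.QS h)) ≫ c'.actHom h := by
    rw [lift_fst_snd, Category.id_comp]
  have hv : (snd (Red.Ga S) (c'.QS h) ≫ mapTop h f hs ht).left ≫ c.proj ≫ c.T.hom =
      (snd (Red.Ga S) (c'.QS h)).left ≫ c'.proj ≫ c'.T.hom := by
    rw [← Category.assoc, comp_mapTop_proj, Category.assoc, Over.w f, Category.assoc]
  rw [e, e']
  refine act_ext ?_ ?_ ?_
  · rw [comp_mapTop_proj, lift_act_proj, lift_act_proj, comp_mapTop_proj]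
  · rw [comp_mapTop_X, lift_act_X, lift_act_X, comp_mapTop_X, hv]
  · rw [comp_mapTop_Z, lift_act_Z, lift_act_Z, comp_mapTop_X, comp_mapTop_Z, hv]

theorem isPullback_mapTop :
    IsPullback (mapTop h f hs ht) (c'.projS h) (c.projS h) ((Over.map h).map f) := by
  have key : ∀ s : PullbackCone (c.projS h) ((Over.map h).map f),
      c'.IsPt s.snd.left (s.fst.left.appTop c.X) (s.fst.left.appTop c.Z) := fun s => by
    refine IsPt.pull f hs ht ?_
    have e : s.fst.left ≫ c.proj = s.snd.left ≫ f.left := congrArg CommaMorphism.left s.condition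
    rw [← e]
    exact isPt_comp _
  refine ⟨⟨mapTop_proj h f hs ht⟩, ⟨PullbackCone.IsLimit.mk _
    (fun s => Over.homMk (ptMor (key s)) ?_) (fun s => ?_) (fun s => ?_) fun s m h1 h2 => ?_⟩⟩
  · show ptMor (key s) ≫ c'.proj ≫ c'.T.hom ≫ h = _
    rw [reassoc_of% ptMor_proj]
    exact Over.w s.snd
  · refine act_ext ?_ ?_ ?_
    · rw [comp_mapTop_proj]
      show (ptMor (key s) ≫ c'.proj) ≫ f.left = _
      rw [ptMor_proj]
      exact (congrArg CommaMorphism.left s.condition).symm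
    · rw [comp_mapTop_X]; exact ptMor_X _
    · rw [comp_mapTop_Z]; exact ptMor_Z _
  · exact Over.OverMorphism.ext (ptMor_proj _)
  · refine act_ext ?_ ?_ ?_
    · exact (congrArg CommaMorphism.left h2).trans (ptMor_proj _).symm
    · exact ((comp_mapTop_X h f hs ht m).symm.trans (by rw [h1])).trans (ptMor_X _).symm
    · exact ((comp_mapTop_Z h f hs ht m).symm.trans (by rw [h1])).trans (ptMor_Z _).symm

/-- The morphism of `B G_a` attached to a morphism of covered bases. -/
def mapObj : obj h c' ⟶ obj h c where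
  base := (Over.map h).map f
  top := mapTop h f hs ht
  eqv := mapTop_eqv h f hs ht
  cart := isPullback_mapTop h f hs ht
  wφ := toUnit_unique _ _

end Groth.Misc13.SComplete.Cov
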