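import Groth.Agent.Misc13.SComplete.NodeAlg
import Groth.Agent.Misc13.SComplete.TwistObj
import Groth.Agent.Misc13.SComplete.PuncCover
import Mathlib.RingTheory.Localization.Away.Basic

/-!
`B G_a` is not S-complete: the torsor of class `1/π` on the punctured `ST_R` does not extend over the node.
-/

set_option autoImplicit false

universe u

open CategoryTheory CategoryTheory.Limits MonoidalCategory CartesianMonoidalCategory MonObj GrpObj
  AlgebraicGeometry TopologicalSpace

noncomputable section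

namespace Groth.Misc13.SComplete

open ThetaS

variable {R : Type u} [CommRing R] {π : R}

theorem piFn_Spec {C : Type u} [CommRing C] (χ : R →+* C) :
    (Scheme.ΓSpecIso (CommRingCat.of C)).hom (piFn π (Spec.map (CommRingCat.ofHom χ))) = χ π := by
  rw [piFn, ← CommRingCat.comp_apply (Scheme.ΓSpecIso (CommRingCat.of R)).inv,
    ← Scheme.ΓSpecIso_inv_naturality, CommRingCat.comp_apply, Iso.inv_hom_id_apply]
  rfl

/-- Evaluation of global functions along a morphism from an affine scheme. -/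
def evalAt {W : Scheme.{u}} {C : Type u} [CommRing C] (e : Spec (CommRingCat.of C) ⟶ W) : Γ(W, ⊤) →+* C :=
  (e.appTop ≫ (Scheme.ΓSpecIso (CommRingCat.of C)).hom).hom

theorem evalAt_apply {W : Scheme.{u}} {C : Type u} [CommRing C] (e : Spec (CommRingCat.of C) ⟶ W) (f : Γ(W, ⊤)) :
    evalAt e f = (Scheme.ΓSpecIso (CommRingCat.of C)).hom (e.appTop f) := rfl

theorem evalAt_specMap {W : Scheme.{u}} {C C' : Type u} [CommRing C] [CommRing C'] (r : C →+* C')
    (e : Spec (CommRingCat.of C) ⟶ W) (f : Γ(W, ⊤)) :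
    evalAt (Spec.map (CommRingCat.ofHom r) ≫ e) f = r (evalAt e f) := by
  simp only [evalAt_apply, Scheme.Hom.comp_appTop, CommRingCat.comp_apply]
  rw [← CommRingCat.comp_apply (Spec.map (CommRingCat.ofHom r)).appTop, Scheme.ΓSpecIso_naturality]
  rfl

/-- A point over a base inside `Us` is a translate of `(1, 0)`. -/
theorem exists_eq_of_Us {c : Cov π} {Y : Scheme.{u}} {v : Y ⟶ c.T.left} {a b : Γ(Y, ⊤)} (hp : c.IsPt v a b)
    (hU : ∀ y, v y ∈ c.Us) : ∃ γ, a = 1 + γ * piFn π (v ≫ c.T.hom) := by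
  have hcov : ∀ y : Y, y ∈ Y.basicOpen (piFn π (v ≫ c.T.hom)) ∨ y ∈ Y.basicOpen (-a) := fun y => by
    rcases hp.cov y with h | ⟨h, -⟩ | ⟨-, h⟩
    · exact Or.inl ((c.piFn_mem v y).2 h)
    · refine Or.inr ?_
      have h2 : y ∈ Y.basicOpen (a * 1) := by rwa [_root_.mul_one]
      rw [show a * 1 = -a * -1 by ring] at h2
      exact (mem_basicOpen_mul.1 h2).1
    · exact Or.inl ((c.piFn_mem v y).2 ((c.inter _).2 ⟨hU y, h⟩))
  obtain ⟨γ, ⟨h1, -⟩, -⟩ := existsUnique_div (piFn π (v ≫ c.T.hom)) (-a) (a - 1) b hcov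
    (by linear_combination hp.eq)
  exact ⟨γ, by linear_combination -h1⟩

/-- A point over a base inside `Ut` is a translate of `(0, 0)`. -/
theorem exists_eq_of_Ut {c : Cov π} {Y : Scheme.{u}} {v : Y ⟶ c.T.left} {a b : Γ(Y, ⊤)} (hp : c.IsPt v a b)
    (hU : ∀ y, v y ∈ c.Ut) : ∃ γ, a = γ * piFn π (v ≫ c.T.hom) := by
  have hcov : ∀ y : Y, y ∈ Y.basicOpen (piFn π (v ≫ c.T.hom)) ∨ y ∈ Y.basicOpen ((1 - a)) := fun y => by
    rcases hp.cov y with h | ⟨-, h⟩ | ⟨h, -⟩
    · exact Or.inl ((c.piFn_mem v y).2 h)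
    · exact Or.inl ((c.piFn_mem v y).2 ((c.inter _).2 ⟨h, hU y⟩))
    · exact Or.inr h
  obtain ⟨γ, ⟨h1, -⟩, -⟩ := existsUnique_div (piFn π (v ≫ c.T.hom)) (1 - a) a b hcov
    (by linear_combination hp.eq)
  exact ⟨γ, h1.symm⟩

/-- There is no point of the twisted torsor over the punctured spectrum of a flat algebra meeting the node. -/
theorem false_of_isPt [IsDomain R] [IsDiscreteValuationRing R] (hπ : Irreducible π)
    {B : Type u} [CommRing B] [Algebra (STRing R π) B]
    [Module.Flat (STRing R π) B] (q : Ideal B) (hq : q ≠ ⊤)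
    (hs : algebraMap _ B (sFn R π) ∈ q) (ht : algebraMap _ B (tFn R π) ∈ q)
    (c : Cov π) {W : Scheme.{u}} (jW : W ⟶ Spec (CommRingCat.of B)) [IsOpenImmersion jW] (v : W ⟶ c.T.left)
    (a b : Γ(W, ⊤)) (hp : c.IsPt v a b)
    (hv : v ≫ c.T.hom = jW ≫ Spec.map (CommRingCat.ofHom ((algebraMap (STRing R π) B).comp (algebraMap R _))))
    (hWs : ∀ p : Spec (CommRingCat.of B), algebraMap _ B (sFn R π) ∉ p.asIdeal → p ∈ Set.range jW)
    (hWt : ∀ p : Spec (CommRingCat.of B), algebraMap _ B (tFn R π) ∉ p.asIdeal → p ∈ Set.range jW)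
    (hvs : ∀ w, algebraMap _ B (sFn R π) ∉ (jW w).asIdeal → v w ∈ c.Us)
    (hvt : ∀ w, algebraMap _ B (tFn R π) ∉ (jW w).asIdeal → v w ∈ c.Ut) : False := by
  set σ := algebraMap (STRing R π) B (sFn R π) with hσ
  set τ := algebraMap (STRing R π) B (tFn R π) with hτ
  set p := algebraMap (STRing R π) B (algebraMap R (STRing R π) π) with hp'
  have hst : σ * τ = p := by rw [hσ, hτ, hp', ← map_mul, sFn_mul_tFn]
  have key : ∀ (r : B) (_ : ∀ x : Spec (CommRingCat.of B), r ∉ x.asIdeal → x ∈ Set.range jW),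
      ∃ e : Spec (CommRingCat.of (Localization.Away r)) ⟶ W,
        e ≫ jW = Spec.map (CommRingCat.ofHom (algebraMap B (Localization.Away r))) ∧
        evalAt e (piFn π (v ≫ c.T.hom)) = algebraMap B (Localization.Away r) p ∧
        ∀ x, r ∉ (jW (e x)).asIdeal := by
    intro r hr
    let j := Spec.map (CommRingCat.ofHom (algebraMap B (Localization.Away r)))
    have hj : ∀ x, r ∉ (j x).asIdeal := fun x hx =>
      x.isPrime.ne_top (Ideal.eq_top_of_isUnit_mem _ hx (IsLocalization.Away.algebraMap_isUnit r))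
    let e := IsOpenImmersion.lift jW j (by rintro _ ⟨x, rfl⟩; exact hr _ (hj x))
    refine ⟨e, IsOpenImmersion.lift_fac _ _ _, ?_, fun x => ?_⟩
    · rw [evalAt_apply, ← piFn_comp, hv, show e ≫ jW ≫ _ = _ from IsOpenImmersion.lift_fac_assoc jW j _ _,
        ← Spec.map_comp, ← CommRingCat.ofHom_comp, piFn_Spec]
      rfl
    · rw [← Scheme.Hom.comp_apply, show e ≫ jW = j from IsOpenImmersion.lift_fac _ _ _]
      exact hj x
  obtain ⟨es, hes, hpes, hrs⟩ := key σ hWs
  obtain ⟨et, het, hpet, hrt⟩ := key τ hWt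
  obtain ⟨γs, hγs⟩ := exists_eq_of_Us (hp.comp es) fun x => hvs _ (hrs x)
  obtain ⟨γt, hγt⟩ := exists_eq_of_Ut (hp.comp et) fun x => hvt _ (hrt x)
  let Ls := Localization.Away σ
  let Lt := Localization.Away τ
  have has : evalAt es a = 1 + (Scheme.ΓSpecIso (CommRingCat.of Ls)).hom γs * algebraMap B Ls p := by
    rw [← hpes, evalAt_apply, hγs, evalAt_apply, map_add, map_one, map_mul, Category.assoc, piFn_comp es]
  have hat : evalAt et a = (Scheme.ΓSpecIso (CommRingCat.of Lt)).hom γt * algebraMap B Lt p := by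
    rw [← hpet, evalAt_apply, hγt, evalAt_apply, map_mul, Category.assoc, piFn_comp et]
  obtain ⟨n₁, a₁, ha₁⟩ := IsLocalization.Away.surj σ ((Scheme.ΓSpecIso (CommRingCat.of Ls)).hom γs)
  obtain ⟨n₂, b₁, hb₁⟩ := IsLocalization.Away.surj τ ((Scheme.ΓSpecIso (CommRingCat.of Lt)).hom γt)
  let L := Localization.Away (σ * τ)
  have huστ : IsUnit (algebraMap B L σ * algebraMap B L τ) :=
    map_mul (algebraMap B L) σ τ ▸ IsLocalization.Away.algebraMap_isUnit (σ * τ)
  have huσ : IsUnit (algebraMap B L σ) := isUnit_of_mul_isUnit_left huστ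
  have huτ : IsUnit (algebraMap B L τ) := isUnit_of_mul_isUnit_right huστ
  let ls : Ls →+* L := IsLocalization.Away.lift σ huσ
  let lt : Lt →+* L := IsLocalization.Away.lift τ huτ
  have hls : ls.comp (algebraMap B Ls) = algebraMap B L := IsLocalization.Away.lift_comp σ huσ
  have hlt : lt.comp (algebraMap B Lt) = algebraMap B L := IsLocalization.Away.lift_comp τ huτ
  have hagree : Spec.map (CommRingCat.ofHom ls) ≫ es = Spec.map (CommRingCat.ofHom lt) ≫ et := by
    rw [← cancel_mono jW, Category.assoc, Category.assoc, hes, het, ← Spec.map_comp, ← Spec.map_comp,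
      ← CommRingCat.ofHom_comp, ← CommRingCat.ofHom_comp, hls, hlt]
  have h0 : ls (evalAt es a) = lt (evalAt et a) := by
    rw [← evalAt_specMap, ← evalAt_specMap, hagree]
  rw [has, hat, map_add, map_one, map_mul, map_mul,
    show ls (algebraMap B Ls p) = algebraMap B L p from RingHom.congr_fun hls p,
    show lt (algebraMap B Lt p) = algebraMap B L p from RingHom.congr_fun hlt p] at h0
  have ha₁' := congrArg ls ha₁
  have hb₁' := congrArg lt hb₁
  rw [map_mul, map_pow, show ls (algebraMap B Ls σ) = algebraMap B L σ from RingHom.congr_fun hls σ,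
    show ls (algebraMap B Ls a₁) = algebraMap B L a₁ from RingHom.congr_fun hls a₁] at ha₁'
  rw [map_mul, map_pow, show lt (algebraMap B Lt τ) = algebraMap B L τ from RingHom.congr_fun hlt τ,
    show lt (algebraMap B Lt b₁) = algebraMap B L b₁ from RingHom.congr_fun hlt b₁] at hb₁'
  have hpL : algebraMap B L p = algebraMap B L σ * algebraMap B L τ :=
    (congrArg (algebraMap B L) hst).symm.trans (map_mul _ _ _)
  set n := n₁ + n₂
  have hker : algebraMap B L (p * ((b₁ * τ ^ n₁) * σ ^ n - (a₁ * σ ^ n₂) * τ ^ n) - p ^ n) = 0 := by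
    simp only [map_sub, map_mul, map_pow]
    rw [← ha₁', ← hb₁', hpL]
    rw [hpL] at h0
    linear_combination (-(algebraMap B L σ * algebraMap B L τ) ^ n) * h0
  obtain ⟨⟨_, N, rfl⟩, hN⟩ := (IsLocalization.map_eq_zero_iff (Submonoid.powers (σ * τ)) L _).1 hker
  rw [hst] at hN
  exact false_of_sections hπ q hq hs ht (a₁ * σ ^ n₂) (b₁ * τ ^ n₁) n N hN

theorem Cov.mapLeft_id {c : Cov π} (hs : ∀ x, (𝟙 c.T : c.T ⟶ c.T).left x ∈ c.Us ↔ x ∈ c.Us)
    (ht : ∀ x, (𝟙 c.T : c.T ⟶ c.T).left x ∈ c.Ut ↔ x ∈ c.Ut) : Cov.mapLeft (𝟙 c.T) hs ht = 𝟙 c.Q :=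
  Cov.hom_ext (by rw [Cov.mapLeft, Cov.ptMor_proj, Category.id_comp, Over.id_left, Category.comp_id])
    (by rw [Cov.mapLeft, Cov.ptMor_X]; rfl) (by rw [Cov.mapLeft, Cov.ptMor_Z]; rfl)

theorem Cov.mapLeft_comp {c c' c'' : Cov π} (f : c''.T ⟶ c'.T) (g : c'.T ⟶ c.T)
    (hs : ∀ x, f.left x ∈ c'.Us ↔ x ∈ c''.Us) (ht : ∀ x, f.left x ∈ c'.Ut ↔ x ∈ c''.Ut)
    (hs' : ∀ x, g.left x ∈ c.Us ↔ x ∈ c'.Us) (ht' : ∀ x, g.left x ∈ c.Ut ↔ x ∈ c'.Ut)
    (hs'' : ∀ x, (f ≫ g).left x ∈ c.Us ↔ x ∈ c''.Us) (ht'' : ∀ x, (f ≫ g).left x ∈ c.Ut ↔ x ∈ c''.Ut) :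
    Cov.mapLeft (f ≫ g) hs'' ht'' = Cov.mapLeft f hs ht ≫ Cov.mapLeft g hs' ht' := by
  refine Cov.hom_ext ?_ ?_ ?_
  · simp only [Cov.mapLeft, Category.assoc, Cov.ptMor_proj, reassoc_of% Cov.ptMor_proj, Over.comp_left]
  · simp only [Cov.mapLeft, Scheme.Hom.comp_appTop, CommRingCat.comp_apply, Cov.ptMor_X]
  · simp only [Cov.mapLeft, Scheme.Hom.comp_appTop, CommRingCat.comp_apply, Cov.ptMor_Z]

/-- The covered base, as a functor to `B G_a`. -/
def twist {S : Scheme.{u}} (h : Spec (CommRingCat.of R) ⟶ S) :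
    stPunc Scheme.fppfPrecoverage R π h ⥤ᵇ AlgSt.BG Scheme.fppfPrecoverage (Red.Ga S) where
  toFunctor :=
    { obj := fun A => Cov.obj h (covOf A.obj A.property)
      map := fun {A B} f => Cov.mapObj h f.hom.base
        (fun x => (covOf_mem_iff B.property A.property f.hom x).1)
        (fun x => (covOf_mem_iff B.property A.property f.hom x).2)
      map_id := fun A => AlgSt.QuotObj.hom_ext ((Over.map h).map_id _)
        (Over.OverMorphism.ext (Cov.mapLeft_id (c := covOf A.obj A.property)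
          (fun x => (covOf_mem_iff A.property A.property (𝟙 A : A ⟶ A).hom x).1)
          (fun x => (covOf_mem_iff A.property A.property (𝟙 A : A ⟶ A).hom x).2)))
      map_comp := fun {A B C} f g => AlgSt.QuotObj.hom_ext ((Over.map h).map_comp _ _)
        (Over.OverMorphism.ext (Cov.mapLeft_comp (c := covOf C.obj C.property) (c' := covOf B.obj B.property)
          (c'' := covOf A.obj A.property) f.hom.base g.hom.base
          (fun x => (covOf_mem_iff B.property A.property f.hom x).1)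
          (fun x => (covOf_mem_iff B.property A.property f.hom x).2)
          (fun x => (covOf_mem_iff C.property B.property g.hom x).1)
          (fun x => (covOf_mem_iff C.property B.property g.hom x).2)
          (fun x => (covOf_mem_iff C.property A.property (f ≫ g).hom x).1)
          (fun x => (covOf_mem_iff C.property A.property (f ≫ g).hom x).2))) }
  w := rfl

variable (π) in
/-- The node-missing open of `Spec R[s, t]/(s t - π)`. -/
def punctured : (STSch R π).left.Opens :=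
  (STSch R π).left.basicOpen (stFn (sFn R π)) ⊔ (STSch R π).left.basicOpen (stFn (tFn R π))

variable (π) in
/-- The punctured scheme over `R`. -/
abbrev puncSch : Over (Spec (CommRingCat.of R)) := Over.mk ((punctured π).ι ≫ (STSch R π).hom)

variable (π) in
/-- Its inclusion. -/
def puncι : puncSch π ⟶ STSch R π := Over.homMk (punctured π).ι rfl

variable (π) in
/-- The tautological object of `ST_R` over `Spec R[s, t]/(s t - π)`. -/
abbrev tautObj : AlgSt.QuotObj Scheme.fppfPrecoverage (Gm R) (stAction R π) :=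
  (AlgSt.quotMap Scheme.fppfPrecoverage (Gm R) (stAction R π)).toFunctor.obj ⟨STSch R π, ⟨𝟙 _⟩⟩

variable (π) in
/-- Its restriction to the punctured scheme. -/
abbrev puncObj : AlgSt.QuotObj Scheme.fppfPrecoverage (Gm R) (stAction R π) :=
  (AlgSt.quotMap Scheme.fppfPrecoverage (Gm R) (stAction R π)).toFunctor.obj ⟨puncSch π, ⟨puncι π⟩⟩

variable (π) in
/-- The restriction morphism. -/
abbrev puncHom : puncObj π ⟶ tautObj π :=
  (AlgSt.quotMap Scheme.fppfPrecoverage (Gm R) (stAction R π)).toFunctor.map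
    ⟨puncι π, congrArg ULift.up (Category.comp_id (puncι π))⟩

theorem puncObj_mem_iff (p : (puncObj π).P.left) :
    (p ∈ (puncObj π).P.left.basicOpen (fnP (puncObj π) (sFn R π)) ↔
        (puncι π).left ((puncObj π).π.left p) ∈ (STSch R π).left.basicOpen (stFn (sFn R π))) ∧
      (p ∈ (puncObj π).P.left.basicOpen (fnP (puncObj π) (tFn R π)) ↔
        (puncι π).left ((puncObj π).π.left p) ∈ (STSch R π).left.basicOpen (stFn (tFn R π))) := by
  have e1 : (puncObj π).φ.left p = (stAction R π).act.left ((Gm R ◁ puncι π).left p) := rfl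
  have e2 : (puncι π).left ((puncObj π).π.left p) =
      (snd (Gm R) (STSch R π)).left ((Gm R ◁ puncι π).left p) :=
    (congrArg (fun m => m.left p) (whiskerLeft_snd (Gm R) (puncι π))).symm
  rw [mem_fnP_iff, mem_fnP_iff, e1, e2]
  exact stAction_mem_iff _

theorem missesNode_puncObj : MissesNode (puncObj π) := by
  refine top_le_iff.1 fun p _ => ?_
  have h : ((puncι π).left ((puncObj π).π.left p)) ∈ punctured π := by
    rw [← SetLike.mem_coe, ← Scheme.Opens.range_ι]
    exact Set.mem_range_self _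
  rcases h with h | h
  exacts [Or.inl ((puncObj_mem_iff p).1.2 h), Or.inr ((puncObj_mem_iff p).2.2 h)]

theorem mem_covOf_puncObj (x : (puncObj π).base.left) :
    (x ∈ (covOf (puncObj π) missesNode_puncObj).Us ↔
        (puncι π).left x ∈ (STSch R π).left.basicOpen (stFn (sFn R π))) ∧
      (x ∈ (covOf (puncObj π) missesNode_puncObj).Ut ↔
        (puncι π).left x ∈ (STSch R π).left.basicOpen (stFn (tFn R π))) := by
  obtain ⟨p, rfl⟩ := surjective_pi (puncObj π) x
  exact ⟨(mem_imageOpen _ (hU := fun _ _ h => (saturated _ h).1) p).trans (puncObj_mem_iff p).1,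
    (mem_imageOpen _ (hU := fun _ _ h => (saturated _ h).2) p).trans (puncObj_mem_iff p).2⟩

theorem mem_stFn_Spec {B : Type u} [CommRing B] (φ : STRing R π →+* B) (q : STRing R π)
    (p : Spec (CommRingCat.of B)) :
    Spec.map (CommRingCat.ofHom φ) p ∈ (STSch R π).left.basicOpen (stFn q) ↔ φ q ∉ p.asIdeal := by
  have e : (STSch R π).left.basicOpen (stFn q) = PrimeSpectrum.basicOpen q :=
    basicOpen_eq_of_affine (R := CommRingCat.of (STRing R π)) q
  rw [e]
  rfl

variable [IsDomain R] [IsDiscreteValuationRing R]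

theorem residue_eq_zero (hπ : Irreducible π) :
    (0 : IsLocalRing.ResidueField R) * 0 = algebraMap R (IsLocalRing.ResidueField R) π := by
  rw [zero_mul, eq_comm, IsLocalRing.ResidueField.algebraMap_eq, IsLocalRing.residue_eq_zero_iff,
    hπ.maximalIdeal_eq]
  exact Ideal.mem_span_singleton_self π

variable (π) in
/-- The node as a residue-field-valued point. -/
def nodeHom (hπ : Irreducible π) : STRing R π →ₐ[R] IsLocalRing.ResidueField R :=
  stPt 0 0 (residue_eq_zero hπ)

variable (π) in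
/-- The node. -/
def node (hπ : Irreducible π) : (STSch R π).left :=
  PrimeSpectrum.comap (nodeHom π hπ).toRingHom (⟨⊥, Ideal.isPrime_bot⟩ : PrimeSpectrum (IsLocalRing.ResidueField R))

theorem node_mem (hπ : Irreducible π) :
    sFn R π ∈ (node π hπ).asIdeal ∧ tFn R π ∈ (node π hπ).asIdeal :=
  ⟨(Ideal.mem_bot (R := IsLocalRing.ResidueField R)).2 (stPt_sFn _ _ (residue_eq_zero hπ)),
    (Ideal.mem_bot (R := IsLocalRing.ResidueField R)).2 (stPt_tFn _ _ (residue_eq_zero hπ))⟩

/-- `B G_a` is not S-complete. -/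
theorem not_liftsUniquely (hπ : Irreducible π) {S : Scheme.{u}} (h : Spec (CommRingCat.of R) ⟶ S) :
    ¬ LiftSq.LiftsUniquely (stIncl Scheme.fppfPrecoverage R π h)
      (FibCat.toSelf (AlgSt.BG Scheme.fppfPrecoverage (Red.Ga S))) := by
  intro H
  let sq : LiftSq.Sq (stIncl Scheme.fppfPrecoverage R π h)
      (FibCat.toSelf (AlgSt.BG Scheme.fppfPrecoverage (Red.Ga S))) :=
    ⟨twist h, FibCat.toSelf _, Iso.refl _⟩
  obtain ⟨d⟩ := (H sq).1
  let a : (stPunc Scheme.fppfPrecoverage R π h).obj := ⟨puncObj π, missesNode_puncObj⟩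
  let F := d.fn
  let Q₀ := F.toFunctor.obj (tautObj π)
  let M : F.toFunctor.obj (puncObj π) ⟶ Q₀ := F.toFunctor.map (puncHom π)
  let e : F.toFunctor.obj (puncObj π) ⟶ (twist h).toFunctor.obj a := d.isoTop.hom.toNatTrans.app a
  have hb₀ : Q₀.base = (Over.map h).obj (STSch R π) := BasedFunctor.w_obj F (tautObj π)
  have hb₁ : (F.toFunctor.obj (puncObj π)).base = (Over.map h).obj (puncSch π) :=
    BasedFunctor.w_obj F (puncObj π)
  have hM : M.base = eqToHom hb₁ ≫ (Over.map h).map (puncι π) ≫ eqToHom hb₀.symm :=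
    Functor.congr_hom F.w (puncHom π)
  have he : e.base = eqToHom hb₁ := by
    haveI := d.isoTop.hom.isHomLift' a
    have h' := IsHomLift.fac' (AlgSt.BG Scheme.fppfPrecoverage (Red.Ga S)).p
      (𝟙 ((stPunc Scheme.fppfPrecoverage R π h).p.obj a)) (d.isoTop.hom.toNatTrans.app a)
    simp only [Category.id_comp, eqToHom_trans] at h'
    exact h'
  obtain ⟨Rc, hRc, hsec⟩ := Q₀.loc
  let i₀ := eqToIso hb₀
  let i₁ := eqToIso hb₁
  obtain ⟨S', f, hf, z, hz⟩ := Scheme.JointlySurjective.exists_eq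
    (K := Scheme.precoverage (@Flat ⊓ @LocallyOfFinitePresentation)) Rc hRc (i₀.inv.left (node π hπ))
  obtain ⟨hflat, -⟩ := hRc.2 hf
  obtain ⟨σ, hσ⟩ := hsec f hf
  have hz' : i₀.hom.left (f z) = node π hπ := by
    rw [hz, ← Scheme.Hom.comp_apply, ← Over.comp_left, Iso.inv_hom_id]
    rfl
  obtain ⟨zC, hzC⟩ := S'.affineOpenCover.covers z
  let j := S'.affineOpenCover.f (S'.affineOpenCover.idx z)
  let B : Type u := S'.affineOpenCover.X (S'.affineOpenCover.idx z)
  let g : Spec (CommRingCat.of B) ⟶ (STSch R π).left := j ≫ f ≫ i₀.hom.left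
  let g' : Spec (CommRingCat.of B) ⟶ Spec (CommRingCat.of (STRing R π)) := g
  haveI : Flat g' := by
    haveI : Flat j := inferInstance
    haveI : IsIso i₀.hom.left := ((Over.forget S).mapIso i₀).isIso_hom
    haveI : Flat i₀.hom.left := inferInstance
    exact inferInstanceAs (Flat (j ≫ f ≫ i₀.hom.left))
  let φ := (Spec.preimage g').hom
  have hgφ : Spec.map (CommRingCat.ofHom φ) = g := Spec.map_preimage g'
  have hgφ' : Spec.map (CommRingCat.ofHom φ) = g' := hgφ
  letI : Algebra (STRing R π) B := φ.toAlgebra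
  haveI : Module.Flat (STRing R π) B := by
    have hfl : φ.Flat := (Flat.SpecMap_iff (f := CommRingCat.ofHom φ)).1 (hgφ' ▸ inferInstance)
    exact hfl
  let W := g ⁻¹ᵁ punctured π
  let u := g ∣_ punctured π
  have hu : u ≫ (punctured π).ι = W.ι ≫ g := morphismRestrict_ι _ _
  let Yo : Over S := Over.mk (u ≫ (puncSch π).hom ≫ h)
  let p₀ : Yo ⟶ Q₀.P := Over.homMk (W.ι ≫ j ≫ σ) (by
    have hσ' : σ ≫ Q₀.π.left = f := hσ
    show (W.ι ≫ j ≫ σ) ≫ Q₀.P.hom = u ≫ ((punctured π).ι ≫ (STSch R π).hom) ≫ h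
    simp only [← Category.assoc]
    rw [hu, ← Over.w Q₀.π, ← Over.w i₀.hom]
    simp only [g, Category.assoc]
    rw [reassoc_of% hσ']
    rfl)
  let p₁ : Yo ⟶ (F.toFunctor.obj (puncObj π)).base :=
    (Over.homMk u rfl : Yo ⟶ (Over.map h).obj (puncSch π)) ≫ i₁.inv
  have hw : p₀ ≫ Q₀.π = p₁ ≫ M.base := by
    rw [← cancel_mono i₀.hom, hM]
    simp only [p₁, i₁, i₀, eqToIso.hom, eqToIso.inv, Category.assoc, eqToHom_trans_assoc, eqToHom_refl,
      Category.id_comp, eqToHom_trans, Category.comp_id]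
    refine Over.OverMorphism.ext ?_
    show (W.ι ≫ j ≫ σ) ≫ Q₀.π.left ≫ i₀.hom.left = u ≫ (punctured π).ι
    rw [hu]
    have hσ' : σ ≫ Q₀.π.left = f := hσ
    simp only [g, Category.assoc, reassoc_of% hσ']
  obtain ⟨l, hl0, hl1⟩ : ∃ l, l ≫ M.top = p₀ ∧ l ≫ (F.toFunctor.obj (puncObj π)).π = p₁ :=
    ⟨M.cart.lift p₀ p₁ hw, M.cart.lift_fst _ _ _, M.cart.lift_snd _ _ _⟩
  let p : Yo ⟶ Cov.QS (covOf (puncObj π) missesNode_puncObj) h := l ≫ e.top
  have hproj : p ≫ Cov.projS (covOf (puncObj π) missesNode_puncObj) h = Over.homMk u rfl := by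
    have hcw : e.top ≫ Cov.projS (covOf (puncObj π) missesNode_puncObj) h =
        (F.toFunctor.obj (puncObj π)).π ≫ e.base := e.cart.w
    refine (Category.assoc l e.top _).trans ((congrArg (fun m => l ≫ m) hcw).trans ?_)
    refine ((Category.assoc l _ _).symm.trans (congrArg (fun m => m ≫ e.base) hl1)).trans ?_
    rw [he]
    exact (Category.assoc _ _ _).trans
      ((congrArg (fun m => (Over.homMk u rfl : Yo ⟶ (Over.map h).obj (puncSch π)) ≫ m) i₁.inv_hom_id).trans
        (Category.comp_id _))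
  have hpt := Cov.isPt_comp p.left
  rw [show p.left ≫ (covOf (puncObj π) missesNode_puncObj).proj = u from congrArg CommaMorphism.left hproj] at hpt
  have hmem : ∀ w, (puncι π).left (u w) = Spec.map (CommRingCat.ofHom φ) (W.ι w) := fun w => by
    rw [hgφ]
    exact congrArg (fun m => m w) hu
  have hgz : Spec.map (CommRingCat.ofHom φ) zC = node π hπ := by
    rw [hgφ]
    show i₀.hom.left (f (j zC)) = _
    rw [show j zC = z from hzC]
    exact hz'
  refine false_of_isPt (R := R) hπ zC.asIdeal zC.isPrime.ne_top ?_ ?_ (covOf (puncObj π) missesNode_puncObj)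
    W.ι u _ _ hpt ?_ (fun x hx => ?_) (fun x hx => ?_) (fun w hw => ?_) fun w hw => ?_
  · have := (node_mem hπ).1
    rw [← hgz] at this
    exact this
  · have := (node_mem hπ).2
    rw [← hgz] at this
    exact this
  · show u ≫ (punctured π).ι ≫ (STSch R π).hom = _
    rw [reassoc_of% hu]
    refine congrArg (fun m => W.ι ≫ m) ((congrArg (fun m => m ≫ (STSch R π).hom) hgφ.symm).trans ?_)
    rw [CommRingCat.ofHom_comp, Spec.map_comp]
    rfl
  · rw [Scheme.Opens.range_ι]
    refine Or.inl ?_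
    show g x ∈ _
    rw [← hgφ]
    exact (mem_stFn_Spec φ _ x).2 hx
  · rw [Scheme.Opens.range_ι]
    refine Or.inr ?_
    show g x ∈ _
    rw [← hgφ]
    exact (mem_stFn_Spec φ _ x).2 hx
  · refine (mem_covOf_puncObj (u w)).1.2 ?_
    rw [hmem]
    exact (mem_stFn_Spec φ _ _).2 hw
  · refine (mem_covOf_puncObj (u w)).2.2 ?_
    rw [hmem]
    exact (mem_stFn_Spec φ _ _).2 hw

end Groth.Misc13.SComplete
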