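import Groth.Prelude.Def_ThetaS
import Groth.Agent.Reductive.Points
import Groth.Agent.NeronArea.GaCoord
import Groth.Agent.Misc13.SComplete.GlueDiv

/-!
The `G_a`-torsor of class `1/π` on an `R`-scheme covered by two opens whose intersection is the locus where
`π` is invertible: an open subscheme of the pullback of `Spec R[x, z]/(x (1 - x) - π z)`.
-/

set_option autoImplicit false

universe u

open CategoryTheory CategoryTheory.Limits MonoidalCategory CartesianMonoidalCategory MonObj GrpObj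
  AlgebraicGeometry TopologicalSpace

noncomputable section

namespace Groth.Misc13.SComplete

variable {R : Type u} [CommRing R] {π : R}

/-- `π` as a global function on an `R`-scheme. -/
abbrev piFn (π : R) {Z : Scheme.{u}} (g : Z ⟶ Spec (CommRingCat.of R)) : Γ(Z, ⊤) :=
  g.appTop ((Scheme.ΓSpecIso (CommRingCat.of R)).inv π)

theorem piFn_comp {Z Z' : Scheme.{u}} (e : Z' ⟶ Z) (g : Z ⟶ Spec (CommRingCat.of R)) :
    piFn π (e ≫ g) = e.appTop (piFn π g) := rfl

variable (π) in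
/-- An `R`-scheme covered by two opens whose intersection is the locus where `π` is invertible. -/
structure Cov : Type (u + 1) where
  /-- the scheme -/
  T : Over (Spec (CommRingCat.of R))
  /-- the first open -/
  Us : T.left.Opens
  /-- the second open -/
  Ut : T.left.Opens
  cover : ∀ x : T.left, x ∈ Us ∨ x ∈ Ut
  inter : ∀ x : T.left, x ∈ T.left.basicOpen (piFn π T.hom) ↔ x ∈ Us ∧ x ∈ Ut

variable (R π) in
/-- The ring `R[x, z]/(x (1 - x) - π z)`. -/
abbrev ERing : Type u := MvPolynomial (Fin 2) R ⧸ Ideal.span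
  {(MvPolynomial.X 0 * (1 - MvPolynomial.X 0) - MvPolynomial.C π * MvPolynomial.X 1 : MvPolynomial (Fin 2) R)}

/-- The class of `x`. -/
abbrev eX (π : R) : ERing R π := Ideal.Quotient.mk _ (MvPolynomial.X 0)

/-- The class of `z`. -/
abbrev eZ (π : R) : ERing R π := Ideal.Quotient.mk _ (MvPolynomial.X 1)

theorem eX_rel (π : R) : eX π * (1 - eX π) = algebraMap R (ERing R π) π * eZ π := by
  rw [← map_one (Ideal.Quotient.mk _), ← map_sub, ← map_mul,
    IsScalarTower.algebraMap_apply R (MvPolynomial (Fin 2) R) (ERing R π), Ideal.Quotient.algebraMap_eq,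
    MvPolynomial.algebraMap_eq, ← map_mul]
  exact (Ideal.Quotient.mk_eq_mk_iff_sub_mem _ _).mpr (Ideal.subset_span rfl)

/-- The structure map. -/
abbrev eHom (π : R) : Spec (CommRingCat.of (ERing R π)) ⟶ Spec (CommRingCat.of R) :=
  Spec.map (CommRingCat.ofHom (algebraMap R (ERing R π)))

theorem eHom_appTop (π : R) (r : R) :
    (eHom π).appTop ((Scheme.ΓSpecIso (CommRingCat.of R)).inv r) =
      (Scheme.ΓSpecIso (CommRingCat.of (ERing R π))).inv (algebraMap R (ERing R π) r) := by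
  rw [← CommRingCat.comp_apply, ← Scheme.ΓSpecIso_inv_naturality]
  rfl

namespace Cov

variable (c : Cov π)

/-- The pullback of `Spec R[x, z]/(x (1 - x) - π z)` to the base. -/
abbrev Q0 : Scheme.{u} := pullback (eHom π) c.T.hom

/-- The coordinate `x`. -/
abbrev x0 : Γ(c.Q0, ⊤) :=
  (pullback.fst (eHom π) c.T.hom).appTop ((Scheme.ΓSpecIso (CommRingCat.of (ERing R π))).inv (eX π))

/-- The coordinate `z`. -/
abbrev z0 : Γ(c.Q0, ⊤) :=
  (pullback.fst (eHom π) c.T.hom).appTop ((Scheme.ΓSpecIso (CommRingCat.of (ERing R π))).inv (eZ π))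

/-- The open of `Q0` underlying the torsor. -/
def W : c.Q0.Opens :=
  (pullback.snd (eHom π) c.T.hom ⁻¹ᵁ c.T.left.basicOpen (piFn π c.T.hom)) ⊔
    ((c.Q0.basicOpen c.x0 ⊓ pullback.snd (eHom π) c.T.hom ⁻¹ᵁ c.Us) ⊔
      (c.Q0.basicOpen (1 - c.x0) ⊓ pullback.snd (eHom π) c.T.hom ⁻¹ᵁ c.Ut))

/-- The total space of the torsor. -/
abbrev Q : Scheme.{u} := c.W.toScheme

/-- The projection. -/
def proj : c.Q ⟶ c.T.left := c.W.ι ≫ pullback.snd (eHom π) c.T.hom

/-- The coordinate `x` on the torsor. -/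
def X : Γ(c.Q, ⊤) := c.W.ι.appTop c.x0

/-- The coordinate `z` on the torsor. -/
def Z : Γ(c.Q, ⊤) := c.W.ι.appTop c.z0

/-- The data of a point of the torsor. -/
structure IsPt {Y : Scheme.{u}} (v : Y ⟶ c.T.left) (a b : Γ(Y, ⊤)) : Prop where
  eq : a * (1 - a) = piFn π (v ≫ c.T.hom) * b
  cov : ∀ y : Y, v y ∈ c.T.left.basicOpen (piFn π c.T.hom) ∨ (y ∈ Y.basicOpen a ∧ v y ∈ c.Us) ∨
    (y ∈ Y.basicOpen (1 - a) ∧ v y ∈ c.Ut)

theorem piFn_mem {Y : Scheme.{u}} (v : Y ⟶ c.T.left) (y : Y) :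
    y ∈ Y.basicOpen (piFn π (v ≫ c.T.hom)) ↔ v y ∈ c.T.left.basicOpen (piFn π c.T.hom) := by
  rw [piFn_comp, ← Scheme.preimage_basicOpen_top]
  exact Iff.rfl

theorem isPt_self : c.IsPt c.proj c.X c.Z := by
  constructor
  · have h := congrArg (fun r => c.W.ι.appTop ((pullback.fst (eHom π) c.T.hom).appTop
      ((Scheme.ΓSpecIso (CommRingCat.of (ERing R π))).inv r))) (eX_rel π)
    simp only [map_mul, map_sub, map_one] at h
    refine h.trans ?_
    rw [← eHom_appTop]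
    show c.W.ι.appTop ((pullback.fst (eHom π) c.T.hom).appTop ((eHom π).appTop _)) * c.Z = _
    congr 1
    rw [← CommRingCat.comp_apply (eHom π).appTop, ← Scheme.Hom.comp_appTop, pullback.condition,
      ← CommRingCat.comp_apply, ← Scheme.Hom.comp_appTop, ← Category.assoc]
    rfl
  · intro y
    have e1 : y ∈ c.Q.basicOpen c.X ↔ c.W.ι y ∈ c.Q0.basicOpen c.x0 := by
      rw [X, ← Scheme.preimage_basicOpen_top]; exact Iff.rfl
    have e2 : y ∈ c.Q.basicOpen (1 - c.X) ↔ c.W.ι y ∈ c.Q0.basicOpen (1 - c.x0) := by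
      have h : (1 - c.X) = c.W.ι.appTop (1 - c.x0) := by rw [map_sub, map_one]; rfl
      rw [h, ← Scheme.preimage_basicOpen_top]; exact Iff.rfl
    rw [e1, e2]
    have hy : c.W.ι y ∈ c.W := by
      rw [← SetLike.mem_coe, ← Scheme.Opens.range_ι]
      exact Set.mem_range_self y
    rcases hy with h | h | h
    exacts [Or.inl h, Or.inr (Or.inl h), Or.inr (Or.inr h)]

variable {c}

theorem IsPt.comp {Y Y' : Scheme.{u}} {v : Y ⟶ c.T.left} {a b : Γ(Y, ⊤)} (hp : c.IsPt v a b) (e : Y' ⟶ Y) :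
    c.IsPt (e ≫ v) (e.appTop a) (e.appTop b) := by
  constructor
  · rw [Category.assoc, piFn_comp e, ← map_mul, ← hp.eq, map_mul, map_sub, map_one]
  · intro y
    rcases hp.cov (e y) with h | ⟨h, h'⟩ | ⟨h, h'⟩
    · exact Or.inl h
    · exact Or.inr (Or.inl ⟨by rw [← Scheme.preimage_basicOpen_top]; exact h, h'⟩)
    · refine Or.inr (Or.inr ⟨?_, h'⟩)
      rw [← map_one e.appTop.hom, ← map_sub e.appTop.hom, ← Scheme.preimage_basicOpen_top]
      exact h

theorem isPt_comp {Y : Scheme.{u}} (g : Y ⟶ c.Q) : c.IsPt (g ≫ c.proj) (g.appTop c.X) (g.appTop c.Z) :=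
  c.isPt_self.comp g

/-- The ring map classifying a point. -/
def ptHom {Y : Scheme.{u}} {v : Y ⟶ c.T.left} {a b : Γ(Y, ⊤)} (hp : c.IsPt v a b) : ERing R π →+* Γ(Y, ⊤) :=
  Ideal.Quotient.lift _ (MvPolynomial.eval₂Hom
    ((v ≫ c.T.hom).appTop.hom.comp (Scheme.ΓSpecIso (CommRingCat.of R)).inv.hom) ![a, b]) fun p hp' => by
      obtain ⟨q, rfl⟩ := Ideal.mem_span_singleton'.1 hp'
      rw [map_mul, map_sub, map_mul, map_mul, map_sub, map_one, MvPolynomial.eval₂Hom_X',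
        MvPolynomial.eval₂Hom_X', MvPolynomial.eval₂Hom_C]
      simp only [Matrix.cons_val_zero, Matrix.cons_val_one]
      show _ * (a * (1 - a) - piFn π (v ≫ c.T.hom) * b) = 0
      rw [hp.eq, sub_self, mul_zero]

/-- The morphism to `Q0` given by a point. -/
def mk0 {Y : Scheme.{u}} {v : Y ⟶ c.T.left} {a b : Γ(Y, ⊤)} (hp : c.IsPt v a b) : Y ⟶ c.Q0 :=
  pullback.lift (Y.toSpecΓ ≫ Spec.map (CommRingCat.ofHom (ptHom hp))) v (by
    refine NeronArea.GaCoord.hom_ext_Spec _ _ fun r => ?_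
    rw [Scheme.Hom.comp_appTop, CommRingCat.comp_apply, eHom_appTop, NeronArea.GaCoord.toSpecΓ_specMap_appTop]
    show Ideal.Quotient.lift _ (MvPolynomial.eval₂Hom _ ![a, b]) _ (Ideal.Quotient.mk _ (MvPolynomial.C r)) = _
    rw [Ideal.Quotient.lift_mk, MvPolynomial.eval₂Hom_C]
    rfl)

theorem mk0_x {Y : Scheme.{u}} {v : Y ⟶ c.T.left} {a b : Γ(Y, ⊤)} (hp : c.IsPt v a b) :
    (mk0 hp).appTop c.x0 = a := by
  rw [x0, ← CommRingCat.comp_apply, ← Scheme.Hom.comp_appTop, mk0, pullback.lift_fst,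
    NeronArea.GaCoord.toSpecΓ_specMap_appTop]
  exact MvPolynomial.eval₂Hom_X' _ _ _

theorem mk0_z {Y : Scheme.{u}} {v : Y ⟶ c.T.left} {a b : Γ(Y, ⊤)} (hp : c.IsPt v a b) :
    (mk0 hp).appTop c.z0 = b := by
  rw [z0, ← CommRingCat.comp_apply, ← Scheme.Hom.comp_appTop, mk0, pullback.lift_fst,
    NeronArea.GaCoord.toSpecΓ_specMap_appTop]
  exact MvPolynomial.eval₂Hom_X' _ _ _

theorem range_mk0 {Y : Scheme.{u}} {v : Y ⟶ c.T.left} {a b : Γ(Y, ⊤)} (hp : c.IsPt v a b) :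
    Set.range (mk0 hp) ⊆ Set.range c.W.ι := by
  rw [Scheme.Opens.range_ι]
  rintro _ ⟨y, rfl⟩
  have e : mk0 hp ≫ pullback.snd (eHom π) c.T.hom = v := pullback.lift_snd _ _ _
  have e' : pullback.snd (eHom π) c.T.hom (mk0 hp y) = v y := by rw [← Scheme.Hom.comp_apply, e]
  rcases hp.cov y with h | ⟨h, h'⟩ | ⟨h, h'⟩
  · refine Or.inl ?_
    show pullback.snd (eHom π) c.T.hom (mk0 hp y) ∈ c.T.left.basicOpen _
    rwa [e']
  · refine Or.inr (Or.inl ⟨?_, ?_⟩)
    · show y ∈ mk0 hp ⁻¹ᵁ c.Q0.basicOpen c.x0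
      rwa [Scheme.preimage_basicOpen_top, mk0_x]
    · show pullback.snd (eHom π) c.T.hom (mk0 hp y) ∈ c.Us
      rwa [e']
  · refine Or.inr (Or.inr ⟨?_, ?_⟩)
    · show y ∈ mk0 hp ⁻¹ᵁ c.Q0.basicOpen (1 - c.x0)
      rwa [Scheme.preimage_basicOpen_top, map_sub, map_one, mk0_x]
    · show pullback.snd (eHom π) c.T.hom (mk0 hp y) ∈ c.Ut
      rwa [e']

/-- The morphism to the torsor given by a point. -/
def ptMor {Y : Scheme.{u}} {v : Y ⟶ c.T.left} {a b : Γ(Y, ⊤)} (hp : c.IsPt v a b) : Y ⟶ c.Q :=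
  IsOpenImmersion.lift c.W.ι (mk0 hp) (range_mk0 hp)

@[simp] theorem ptMor_proj {Y : Scheme.{u}} {v : Y ⟶ c.T.left} {a b : Γ(Y, ⊤)} (hp : c.IsPt v a b) :
    ptMor hp ≫ c.proj = v := by
  rw [ptMor, proj, IsOpenImmersion.lift_fac_assoc, mk0, pullback.lift_snd]

@[simp] theorem ptMor_X {Y : Scheme.{u}} {v : Y ⟶ c.T.left} {a b : Γ(Y, ⊤)} (hp : c.IsPt v a b) :
    (ptMor hp).appTop c.X = a := by
  rw [ptMor, X, ← CommRingCat.comp_apply, ← Scheme.Hom.comp_appTop, IsOpenImmersion.lift_fac, mk0_x]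

@[simp] theorem ptMor_Z {Y : Scheme.{u}} {v : Y ⟶ c.T.left} {a b : Γ(Y, ⊤)} (hp : c.IsPt v a b) :
    (ptMor hp).appTop c.Z = b := by
  rw [ptMor, Z, ← CommRingCat.comp_apply, ← Scheme.Hom.comp_appTop, IsOpenImmersion.lift_fac, mk0_z]

theorem hom_ext {Y : Scheme.{u}} {g g' : Y ⟶ c.Q} (hv : g ≫ c.proj = g' ≫ c.proj)
    (ha : g.appTop c.X = g'.appTop c.X) (hb : g.appTop c.Z = g'.appTop c.Z) : g = g' := by
  rw [← cancel_mono c.W.ι]
  apply pullback.hom_ext
  · refine NeronArea.GaCoord.hom_ext_Spec _ _ fun r => ?_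
    simp only [Scheme.Hom.comp_appTop, CommRingCat.comp_apply]
    have hring : (((g ≫ c.W.ι ≫ pullback.fst (eHom π) c.T.hom).appTop.hom.comp
        (Scheme.ΓSpecIso (CommRingCat.of (ERing R π))).inv.hom) : ERing R π →+* Γ(Y, ⊤)) =
        ((g' ≫ c.W.ι ≫ pullback.fst (eHom π) c.T.hom).appTop.hom.comp
        (Scheme.ΓSpecIso (CommRingCat.of (ERing R π))).inv.hom) := by
      apply Ideal.Quotient.ringHom_ext
      refine MvPolynomial.ringHom_ext (fun r => ?_) fun i => ?_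
      · show (g ≫ c.W.ι ≫ _).appTop ((Scheme.ΓSpecIso (CommRingCat.of (ERing R π))).inv (algebraMap R (ERing R π) r)) =
          (g' ≫ c.W.ι ≫ _).appTop ((Scheme.ΓSpecIso (CommRingCat.of (ERing R π))).inv (algebraMap R (ERing R π) r))
        rw [← eHom_appTop, ← CommRingCat.comp_apply, ← CommRingCat.comp_apply (eHom π).appTop,
          ← Scheme.Hom.comp_appTop, ← Scheme.Hom.comp_appTop]
        simp only [Category.assoc, pullback.condition]
        have e := congrArg (fun φ => φ ≫ c.T.hom) hv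
        simp only [proj, Category.assoc] at e
        rw [e]
      · fin_cases i
        exacts [ha, hb]
    exact RingHom.congr_fun hring r
  · simpa only [proj, Category.assoc] using hv

variable (c)
variable {S : Scheme.{u}} (h : Spec (CommRingCat.of R) ⟶ S)

/-- The torsor over `S`. -/
abbrev QS : Over S := Over.mk (c.proj ≫ c.T.hom ≫ h)

/-- The base over `S`. -/
abbrev TS : Over S := (Over.map h).obj c.T

/-- The projection over `S`. -/
def projS : c.QS h ⟶ c.TS h := Over.homMk c.proj rfl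

theorem isPt_add {Y : Scheme.{u}} {v : Y ⟶ c.T.left} {a b : Γ(Y, ⊤)} (hp : c.IsPt v a b) (γ : Γ(Y, ⊤)) :
    c.IsPt v (a + γ * piFn π (v ≫ c.T.hom))
      (b + γ * (1 - 2 * a) - γ ^ 2 * piFn π (v ≫ c.T.hom)) := by
  constructor
  · linear_combination hp.eq
  · intro y
    set p := piFn π (v ≫ c.T.hom) with hpdef
    rcases hp.cov y with h | ⟨h, h'⟩ | ⟨h, h'⟩
    · exact Or.inl h
    · have h2 : y ∈ Y.basicOpen (1 * (a + γ * p) + (-γ) * p) := by
        rwa [show 1 * (a + γ * p) + (-γ) * p = a by ring]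
      exact (mem_basicOpen_comb h2).elim (fun h3 => Or.inr (Or.inl ⟨h3, h'⟩))
        fun h3 => Or.inl ((c.piFn_mem v y).1 h3)
    · have h2 : y ∈ Y.basicOpen (1 * (1 - (a + γ * p)) + γ * p) := by
        rwa [show 1 * (1 - (a + γ * p)) + γ * p = 1 - a by ring]
      exact (mem_basicOpen_comb h2).elim (fun h3 => Or.inr (Or.inr ⟨h3, h'⟩))
        fun h3 => Or.inl ((c.piFn_mem v y).1 h3)

/-- The underlying action morphism. -/
def actLeft : (Red.Ga S ⊗ c.QS h).left ⟶ c.Q :=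
  ptMor (c.isPt_add (isPt_comp (snd (Red.Ga S) (c.QS h)).left) (Red.gaFn (fst (Red.Ga S) (c.QS h))))

/-- The action of `G_a`. -/
def actHom : Red.Ga S ⊗ c.QS h ⟶ c.QS h :=
  Over.homMk (c.actLeft h) (by
    show c.actLeft h ≫ c.proj ≫ c.T.hom ≫ h = _
    rw [actLeft, reassoc_of% ptMor_proj, ← Over.w (snd (Red.Ga S) (c.QS h))]
    simp)

variable {c h}

theorem lift_act_proj {Y : Over S} (γ : Y ⟶ Red.Ga S) (p : Y ⟶ c.QS h) :
    (lift γ p ≫ c.actHom h).left ≫ c.proj = p.left ≫ c.proj := by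
  show ((lift γ p).left ≫ c.actLeft h) ≫ c.proj = _
  rw [Category.assoc, actLeft, ptMor_proj, ← Category.assoc]
  exact congrArg (· ≫ c.proj) (congrArg CommaMorphism.left (lift_snd γ p))

theorem lift_act_X {Y : Over S} (γ : Y ⟶ Red.Ga S) (p : Y ⟶ c.QS h) :
    (lift γ p ≫ c.actHom h).left.appTop c.X =
      p.left.appTop c.X + Red.gaFn γ * piFn π (p.left ≫ c.proj ≫ c.T.hom) := by
  show (lift γ p).left.appTop ((c.actLeft h).appTop c.X) = _
  rw [actLeft, ptMor_X, map_add, map_mul, ← Groth.Reductive.gaFn_comp, lift_fst,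
    ← piFn_comp, ← CommRingCat.comp_apply (snd (Red.Ga S) (c.QS h)).left.appTop, ← Scheme.Hom.comp_appTop]
  simp only [← Category.assoc]
  rw [show (lift γ p).left ≫ (snd (Red.Ga S) (c.QS h)).left = p.left from
    congrArg CommaMorphism.left (lift_snd γ p)]

theorem lift_act_Z {Y : Over S} (γ : Y ⟶ Red.Ga S) (p : Y ⟶ c.QS h) :
    (lift γ p ≫ c.actHom h).left.appTop c.Z =
      p.left.appTop c.Z + Red.gaFn γ * (1 - 2 * p.left.appTop c.X) -
        Red.gaFn γ ^ 2 * piFn π (p.left ≫ c.proj ≫ c.T.hom) := by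
  show (lift γ p).left.appTop ((c.actLeft h).appTop c.Z) = _
  rw [actLeft, ptMor_Z]
  simp only [map_sub, map_add, map_mul, map_pow, map_one, map_ofNat]
  rw [← Groth.Reductive.gaFn_comp, lift_fst, ← piFn_comp,
    ← CommRingCat.comp_apply (snd (Red.Ga S) (c.QS h)).left.appTop, ← Scheme.Hom.comp_appTop,
    ← CommRingCat.comp_apply (snd (Red.Ga S) (c.QS h)).left.appTop, ← Scheme.Hom.comp_appTop]
  simp only [← Category.assoc]
  rw [show (lift γ p).left ≫ (snd (Red.Ga S) (c.QS h)).left = p.left from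
    congrArg CommaMorphism.left (lift_snd γ p)]

theorem act_ext {Y : Over S} {g g' : Y ⟶ c.QS h} (hv : g.left ≫ c.proj = g'.left ≫ c.proj)
    (ha : g.left.appTop c.X = g'.left.appTop c.X) (hb : g.left.appTop c.Z = g'.left.appTop c.Z) : g = g' :=
  Over.OverMorphism.ext (hom_ext hv ha hb)

theorem one_act {Y : Over S} (p : Y ⟶ c.QS h) : lift (1 : Y ⟶ Red.Ga S) p ≫ c.actHom h = p :=
  act_ext (lift_act_proj _ _) (by rw [lift_act_X, Groth.Reductive.gaFn_one]; ring)
    (by rw [lift_act_Z, Groth.Reductive.gaFn_one]; ring)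

theorem mul_act {Y : Over S} (γ δ : Y ⟶ Red.Ga S) (p : Y ⟶ c.QS h) :
    lift (γ * δ) p ≫ c.actHom h = lift γ (lift δ p ≫ c.actHom h) ≫ c.actHom h := by
  have hv : (lift δ p ≫ c.actHom h).left ≫ c.proj ≫ c.T.hom = p.left ≫ c.proj ≫ c.T.hom := by
    rw [← Category.assoc, lift_act_proj, Category.assoc]
  refine act_ext ?_ ?_ ?_
  · rw [lift_act_proj, lift_act_proj, lift_act_proj]
  · rw [lift_act_X, lift_act_X γ, hv, lift_act_X, Groth.Reductive.gaFn_mul]; ring
  · rw [lift_act_Z, lift_act_Z γ, hv, lift_act_X, lift_act_Z, Groth.Reductive.gaFn_mul]; ring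

variable (c h)

/-- The action, as a group action. -/
def action : AlgGrp.Action (Red.Ga S) (c.QS h) where
  act := c.actHom h
  one_act := by
    have e : η[Red.Ga S] ▷ c.QS h = lift (1 : _ ⟶ Red.Ga S) (snd _ _) := by
      rw [← tensorHom_id, ← lift_fst_comp_snd_comp, Category.comp_id, Hom.one_def,
        toUnit_unique (toUnit _) (fst _ _)]
    rw [e, one_act, leftUnitor_hom]
  mul_act := by
    have e1 : μ[Red.Ga S] ▷ c.QS h =
        lift ((fst _ _ ≫ fst _ _) * (fst _ _ ≫ snd (Red.Ga S) (Red.Ga S))) (snd _ _) := by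
      rw [Hom.mul_def, ← comp_lift, lift_fst_snd, Category.comp_id, ← tensorHom_id, ← lift_fst_comp_snd_comp,
        Category.comp_id]
    have e2 : (α_ (Red.Ga S) (Red.Ga S) (c.QS h)).hom =
        lift (fst _ _ ≫ fst _ _) (lift (fst _ _ ≫ snd _ _) (snd _ _)) := by
      rw [← lift_lift_associator_hom, lift_comp_fst_snd, lift_fst_snd, Category.id_comp]
    rw [e1, e2, mul_act, lift_whiskerLeft_assoc]

end Cov

end Groth.Misc13.SComplete
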